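import Groth.Agent.AlgGrp1.Homogeneous
import Groth.Agent.AlgGrp1.KPoints
import Groth.Agent.FibreDim.StalkFormula
import Groth.Agent.GrpschAbsch.GrpDim
import Groth.Agent.GrpschAbsch.IntegralDim
import Groth.Agent.FibreDim.GroupScheme

/-!
# Homomorphisms of group schemes of equal dimension: flat, finite, surjective
-/

universe u

open CategoryTheory Limits MonoidalCategory CartesianMonoidalCategory MonObj AlgebraicGeometry
  TopologicalSpace

namespace Groth.Abvar.Hom

variable {k : Type u} [Field k] {X Y : Over (Spec (CommRingCat.of k))} [GrpObj X] [GrpObj Y]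
  (f : X ⟶ Y) [IsMonHom f]

/-- The action of the source on the target of a homomorphism by left multiplication. -/
noncomputable def leftAction : AlgGrp.Action X Y where
  act := (fst X Y ≫ f) * snd X Y
  one_act := by
    rw [MonObj.comp_mul, whiskerRight_fst_assoc, whiskerRight_snd, IsMonHom.one_hom,
      toUnit_unique (fst (𝟙_ (Over (Spec (CommRingCat.of k)))) Y) (toUnit _), ← Hom.one_def,
      _root_.one_mul, leftUnitor_hom]
  mul_act := by
    rw [show μ[X] = fst X X * snd X X by simp [Hom.mul_def]]
    simp only [MonObj.comp_mul, MonObj.mul_comp, whiskerRight_fst_assoc, whiskerRight_snd,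
      whiskerLeft_fst_assoc, whiskerLeft_snd_assoc, whiskerLeft_snd, associator_hom_fst,
      associator_hom_fst_assoc, associator_hom_snd_fst, associator_hom_snd_fst_assoc,
      associator_hom_snd_snd, Category.assoc, _root_.mul_assoc]

theorem leftAction_equivariant :
    (X ◁ f) ≫ (leftAction f).act = (Groth.AlgGrp1.regularAction X).act ≫ f := by
  show (X ◁ f) ≫ ((fst X Y ≫ f) * snd X Y) = μ[X] ≫ f
  rw [show μ[X] = fst X X * snd X X by simp [Hom.mul_def], MonObj.comp_mul, MonObj.mul_comp,
    whiskerLeft_fst_assoc, whiskerLeft_snd]

/-- A surjective homomorphism of finite type to a reduced group is flat. -/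
theorem flat_of_surjective [LocallyOfFiniteType X.hom] [QuasiCompact X.hom]
    [LocallyOfFiniteType Y.hom] [QuasiCompact Y.hom] [IsReduced Y.left] [Surjective f.left] :
    Flat f.left := by
  refine Groth.AlgGrp1.flat_of_equivariant (K := AlgebraicClosure k)
    (Groth.AlgGrp1.regularAction X) (leftAction f) f (leftAction_equivariant f) fun y y' => ?_
  obtain ⟨g, hg, -⟩ := Groth.AlgGrp1.exists_point_lift f (y' * y⁻¹) ⊤
    ⟨_, trivial, (f.left.surjective _).choose_spec⟩
  refine ⟨g, ?_⟩
  show lift g y ≫ ((fst X Y ≫ f) * snd X Y) = y'
  rw [MonObj.comp_mul, lift_fst_assoc, lift_snd, hg, inv_mul_cancel_right]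

/-- A closed maximal point of a Noetherian scheme is isolated. -/
theorem isOpen_singleton_of_stalk_dim_zero {Z : Scheme.{u}} [NoetherianSpace Z] {z : Z}
    (hz : IsClosed ({z} : Set Z)) (h0 : ringKrullDim (Z.presheaf.stalk z) ≤ 0) :
    IsOpen ({z} : Set Z) := by
  have hmax : IsMax z := by
    rw [← Order.coheight_eq_zero]
    have : (Order.coheight z : WithBot ℕ∞) ≤ ((0 : ℕ∞) : WithBot ℕ∞) :=
      (ringKrullDim_stalk_eq_coheight z) ▸ h0
    exact le_antisymm (by exact_mod_cast this) zero_le
  have hcomp : ({z} : Set Z) ∈ irreducibleComponents Z := by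
    simpa [hz.closure_eq] using Groth.GrpschAbsch.closure_mem_irreducibleComponents hmax
  set T := ⋃ C ∈ irreducibleComponents Z \ {{z}}, C with hT
  have hfin : (irreducibleComponents Z \ {({z} : Set Z)}).Finite :=
    NoetherianSpace.finite_irreducibleComponents.sdiff
  have hTc : IsClosed T :=
    hfin.isClosed_biUnion fun C hC => isClosed_of_mem_irreducibleComponents C hC.1
  have : ({z} : Set Z) = Tᶜ := by
    ext w
    simp only [Set.mem_singleton_iff, Set.mem_compl_iff, hT, Set.mem_iUnion, not_exists]
    constructor
    · rintro rfl C ⟨hC, hne⟩ hwC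
      exact hne (Set.mem_singleton_iff.2
        ((hcomp.2 hC.1 (Set.singleton_subset_iff.2 hwC)).antisymm (Set.singleton_subset_iff.2 hwC)))
    · intro h
      by_contra hw
      refine h (irreducibleComponent w) ⟨irreducibleComponent_mem_irreducibleComponents w, fun he => hw ?_⟩
        mem_irreducibleComponent
      have h' : w ∈ irreducibleComponent w := mem_irreducibleComponent
      rwa [Set.mem_singleton_iff.1 he] at h'
  rw [this]
  exact hTc.isOpen_compl

/-- A flat homomorphism between groups of the same dimension is locally quasi-finite. -/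
theorem locallyQuasiFinite_of_flat [LocallyOfFiniteType X.hom] [QuasiCompact X.hom]
    [LocallyOfFiniteType Y.hom] [Flat f.left]
    (hdim : topologicalKrullDim X.left = topologicalKrullDim Y.left) :
    LocallyQuasiFinite f.left := by
  have := Groth.AlgGrp1.isLocallyNoetherian_left X
  have := Groth.AlgGrp1.isLocallyNoetherian_left Y
  have := Groth.AlgGrp1.isSeparated_grpObj Y
  have := Groth.AlgGrp1.lfp_left f
  have : QuasiCompact (f.left ≫ Y.hom) := by rw [Over.w]; infer_instance
  have : QuasiCompact f.left := QuasiCompact.of_comp _ Y.hom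
  have := LocallyOfFiniteType.jacobsonSpace X.hom
  have := LocallyOfFiniteType.jacobsonSpace Y.hom
  obtain ⟨d, hd⟩ := Groth.FibreDim.exists_dim_eq_nat Y
  have hcl : ∀ x : X.left, IsClosed ({x} : Set X.left) → f.left.QuasiFiniteAt x := by
    intro x hx
    have hy : IsClosed ({f.left x} : Set Y.left) := by
      have hx' : x ∈ closedPoints X.left := hx
      exact f.left.closePoints_subset_preimage_closedPoints hx'
    have hopen : IsOpenMap f.left.base := f.left.isOpenMap
    have h := Groth.FibreDim.ringKrullDim_stalk_eq_add f.left x
      fun z _ _ U hU => hopen.image_mem_nhds hU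
    rw [Groth.GrpschAbsch.ringKrullDim_stalk_closedPoint X hx,
      Groth.GrpschAbsch.ringKrullDim_stalk_closedPoint Y hy, hdim, hd] at h
    have h0 : ringKrullDim ((f.left.fiber (f.left x)).presheaf.stalk (f.left.asFiber x)) ≤ 0 := by
      generalize ringKrullDim ((f.left.fiber (f.left x)).presheaf.stalk (f.left.asFiber x)) = a at h
      induction a using WithBot.recBotCoe with
      | bot => exact bot_le
      | coe a =>
        have h' : (d : ℕ∞) = (d : ℕ∞) + a := by exact_mod_cast h
        induction a using ENat.recTopCoe with
        | top => simp at h'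
        | coe a =>
          have h'' : d = d + a := by exact_mod_cast h'
          have : a = 0 := by omega
          simp [this]
    have hz : IsClosed ({f.left.asFiber x} : Set (f.left.fiber (f.left x))) := by
      have e : ({f.left.asFiber x} : Set (f.left.fiber (f.left x))) =
          (f.left.fiberι (f.left x)).base ⁻¹' {x} := by
        ext w
        simp only [Set.mem_singleton_iff, Set.mem_preimage]
        constructor
        · rintro rfl; exact f.left.fiberι_asFiber x
        · intro hw
          exact (f.left.fiberι (f.left x)).isEmbedding.injective (hw.trans (f.left.fiberι_asFiber x).symm)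
      rw [e]
      exact hx.preimage (f.left.fiberι (f.left x)).continuous
    have : CompactSpace X.left := QuasiCompact.compactSpace_of_compactSpace X.hom
    have : AlgebraicGeometry.IsNoetherian X.left := ⟨⟩
    have : NoetherianSpace (f.left.fiber (f.left x)) :=
      (f.left.fiberι (f.left x)).isEmbedding.isInducing.noetherianSpace
    exact (Scheme.Hom.quasiFiniteAt_iff_isOpen_singleton_asFiber).2
      (isOpen_singleton_of_stalk_dim_zero hz h0)
  rw [← Scheme.Hom.quasiFiniteLocus_eq_top_iff]
  refine Opens.ext (Set.eq_univ_of_forall fun x => ?_)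
  by_contra hx
  obtain ⟨c, hc, hcc⟩ := nonempty_inter_closedPoints (Z := (f.left.quasiFiniteLocus : Set X.left)ᶜ)
    ⟨x, hx⟩ f.left.quasiFiniteLocus.2.isClosed_compl.isLocallyClosed
  exact hc (hcl c hcc)

theorem isFinite_of_flat [IsProper X.hom] [LocallyOfFiniteType Y.hom] [Flat f.left]
    (hdim : topologicalKrullDim X.left = topologicalKrullDim Y.left) : IsFinite f.left := by
  have := Groth.AlgGrp1.isSeparated_grpObj Y
  have : IsProper (f.left ≫ Y.hom) := by rw [Over.w]; infer_instance
  have : IsProper f.left := IsProper.of_comp f.left Y.hom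
  have := locallyQuasiFinite_of_flat f hdim
  exact IsFinite.of_isProper_of_locallyQuasiFinite f.left

omit [GrpObj X] [GrpObj Y] [IsMonHom f] in
/-- A flat morphism from a nonempty proper scheme to a connected separated one is surjective. -/
theorem surjective_of_flat [IsProper X.hom] [LocallyOfFiniteType Y.hom] [IsSeparated Y.hom]
    [PreconnectedSpace Y.left] [Nonempty X.left] [Flat f.left] : Surjective f.left := by
  have : IsProper (f.left ≫ Y.hom) := by rw [Over.w]; infer_instance
  have : IsProper f.left := IsProper.of_comp f.left Y.hom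
  have := Groth.AlgGrp1.lfp_left f
  refine ⟨Set.range_eq_univ.1 ?_⟩
  exact IsClopen.eq_univ ⟨f.left.isClosedMap.isClosed_range, f.left.isOpenMap.isOpen_range⟩
    (Set.range_nonempty _)

/-- A finite homomorphism between groups of the same dimension, the target irreducible, is
surjective. -/
theorem surjective_of_isFinite [LocallyOfFiniteType X.hom] [LocallyOfFiniteType Y.hom]
    [IrreducibleSpace Y.left] [IsFinite f.left]
    (hdim : topologicalKrullDim X.left = topologicalKrullDim Y.left) : Surjective f.left := by
  obtain ⟨d, hd⟩ := Groth.FibreDim.exists_dim_eq_nat Y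
  obtain ⟨a, -, ha⟩ := Groth.GrpschAbsch.exists_isMax_ge
    (η[X].left.base (IsLocalRing.closedPoint k))
  have hη : IsMax (genericPoint Y.left) := fun y hy => genericPoint_specializes y
  have h1 : (Order.height (f.left a) : WithBot ℕ∞) = topologicalKrullDim X.left := by
    rw [Groth.GrpschAbsch.height_eq_of_isIntegralHom]
    exact Groth.GrpschAbsch.height_eq_dim_of_isMax X ha
  have h2 : (Order.height (genericPoint Y.left) : WithBot ℕ∞) = topologicalKrullDim Y.left :=
    Groth.GrpschAbsch.height_eq_dim_of_isMax Y hη
  have he : f.left a = genericPoint Y.left := by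
    by_contra hne
    have hlt : f.left a < genericPoint Y.left :=
      (Groth.Variety2.Dim.lt_iff).2 ⟨genericPoint_specializes _, hne⟩
    rw [hd] at h2
    rw [hdim, hd] at h1
    have e1 : Order.height (f.left a) = d := by exact_mod_cast h1
    have e2 : Order.height (genericPoint Y.left) = d := by exact_mod_cast h2
    have := Order.height_strictMono hlt (by rw [e1]; exact ENat.natCast_lt_top d)
    rw [e1, e2] at this
    exact lt_irrefl _ this
  refine ⟨fun y => ?_⟩
  have hy : y ∈ closure (Set.range f.left.base) := by
    refine closure_mono (s := {f.left a}) (Set.singleton_subset_iff.2 (Set.mem_range_self a)) ?_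
    rw [he]
    exact specializes_iff_mem_closure.1 (genericPoint_specializes y)
  rw [f.left.isClosedMap.isClosed_range.closure_eq] at hy
  exact hy

end Groth.Abvar.Hom
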