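import Groth.Prelude.Def_W4bk6langav68Chow
import Mathlib.AlgebraicGeometry.Group.Abelian
import Mathlib.AlgebraicGeometry.Geometrically.Integral

/-!
# Base change of group schemes: composition, and the homomorphism property of the comparison maps
-/

universe u

open CategoryTheory Limits MonoidalCategory CartesianMonoidalCategory MonObj AlgebraicGeometry

namespace Groth.Abvar

section
variable {C D E : Type*} [Category C] [CartesianMonoidalCategory C] [Category D]
  [CartesianMonoidalCategory D] [Category E] [CartesianMonoidalCategory E]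
  (F : C ⥤ D) [F.Monoidal] (G : D ⥤ E) [G.Monoidal] (H : C ⥤ E) [H.Monoidal]

set_option backward.defeqAttrib.useBackward true in
theorem isMonHom_comp_iso (α : F ⋙ G ≅ H) (A : C) [GrpObj A] :
    letI : GrpObj (F.obj A) := Functor.grpObjObj
    letI : GrpObj (G.obj (F.obj A)) := Functor.grpObjObj
    letI : GrpObj (H.obj A) := Functor.grpObjObj
    IsMonHom (M := G.obj (F.obj A)) (N := H.obj A) (α.hom.app A) ∧
      IsMonHom (M := H.obj A) (N := G.obj (F.obj A)) (α.inv.app A) := by
  letI : GrpObj (F.obj A) := Functor.grpObjObj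
  letI : GrpObj (G.obj (F.obj A)) := Functor.grpObjObj
  letI : GrpObj (H.obj A) := Functor.grpObjObj
  have key : ∀ (X Y : C), (Functor.LaxMonoidal.μ G (F.obj X) (F.obj Y) ≫ G.map (Functor.LaxMonoidal.μ F X Y)) ≫ α.hom.app (X ⊗ Y) =
      ((α.hom.app X) ⊗ₘ (α.hom.app Y)) ≫ Functor.LaxMonoidal.μ H X Y := by
    intro X Y
    rw [← cancel_mono (Functor.Monoidal.μIso H X Y).inv]
    ext
    · have := α.hom.naturality (fst X Y)
      simp only [Functor.comp_map] at this
      simp [← this]
      rw [← G.map_comp_assoc, Functor.Monoidal.μ_fst, Functor.Monoidal.μ_fst_assoc]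
    · have := α.hom.naturality (snd X Y)
      simp only [Functor.comp_map] at this
      simp [← this]
      rw [← G.map_comp_assoc, Functor.Monoidal.μ_snd, Functor.Monoidal.μ_snd_assoc]
  have h1 : IsMonHom (M := G.obj (F.obj A)) (N := H.obj A) (α.hom.app A) := by
    refine ⟨?_, ?_⟩
    · have := α.hom.naturality η[A]
      simp only [Functor.comp_map] at this
      show (Functor.LaxMonoidal.ε G ≫ G.map (Functor.LaxMonoidal.ε F ≫ F.map η[A])) ≫ α.hom.app A = Functor.LaxMonoidal.ε H ≫ H.map η[A]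
      rw [G.map_comp, Category.assoc, Category.assoc, this, ← Category.assoc (G.map (Functor.LaxMonoidal.ε F)), ← Category.assoc]
      congr 1
      rw [← cancel_mono (Functor.Monoidal.εIso H).inv]
      exact toUnit_unique _ _
    · have := α.hom.naturality μ[A]
      simp only [Functor.comp_map] at this
      show (Functor.LaxMonoidal.μ G (F.obj A) (F.obj A) ≫ G.map (Functor.LaxMonoidal.μ F A A ≫ F.map μ[A])) ≫ α.hom.app A =
        _ ≫ Functor.LaxMonoidal.μ H A A ≫ H.map μ[A]
      rw [G.map_comp, Category.assoc, Category.assoc, this, ← Category.assoc (G.map (Functor.LaxMonoidal.μ F A A)),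
        ← Category.assoc, ← Category.assoc (Functor.LaxMonoidal.μ G (F.obj A) (F.obj A)), key]
      simp
  refine ⟨h1, ?_⟩
  let e : G.obj (F.obj A) ≅ H.obj A := α.app A
  have : IsMonHom e.hom := h1
  exact inferInstanceAs (IsMonHom e.inv)

end

variable {S₁ S₂ S₃ : Scheme.{u}}

theorem isMonHom_pullbackComp (f : S₁ ⟶ S₂) (g : S₂ ⟶ S₃) (A : Over S₃) [GrpObj A] :
    IsMonHom (M := Red.bc f (Red.bc g A)) (N := Red.bc (f ≫ g) A) ((Over.pullbackComp f g).inv.app A) ∧
    IsMonHom (M := Red.bc (f ≫ g) A) (N := Red.bc f (Red.bc g A)) ((Over.pullbackComp f g).hom.app A) :=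
  isMonHom_comp_iso (Over.pullback g) (Over.pullback f) (Over.pullback (f ≫ g)) (Over.pullbackComp f g).symm A

theorem isMonHom_eqToHom_bc {S S' : Scheme.{u}} {f g : S' ⟶ S} (h : f = g) (A : Over S) [GrpObj A] :
    IsMonHom (eqToHom (congrArg (fun φ => Red.bc φ A) h)) := by
  subst h
  exact inferInstanceAs (IsMonHom (𝟙 (Red.bc f A)))

theorem isMonHom_map {f : S₁ ⟶ S₂} {A B : Over S₂} [GrpObj A] [GrpObj B] (φ : A ⟶ B) [IsMonHom φ] :
    IsMonHom (M := Red.bc f A) (N := Red.bc f B) ((Over.pullback f).map φ) := by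
  refine ⟨?_, ?_⟩
  · show (Functor.LaxMonoidal.ε (Over.pullback f) ≫ (Over.pullback f).map η[A]) ≫ _ = Functor.LaxMonoidal.ε (Over.pullback f) ≫ _
    rw [Category.assoc, ← Functor.map_comp, IsMonHom.one_hom]
  · show (Functor.LaxMonoidal.μ (Over.pullback f) A A ≫ (Over.pullback f).map μ[A]) ≫ _ = _ ≫ Functor.LaxMonoidal.μ (Over.pullback f) B B ≫ _
    rw [Category.assoc, ← Functor.map_comp, IsMonHom.mul_hom, Functor.map_comp,
      Functor.LaxMonoidal.μ_natural_assoc]

theorem isMonHom_comp {X Y Z : Over S₁} {hX : MonObj X} {hY : MonObj Y} {hZ : MonObj Z}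
    {f : X ⟶ Y} {g : Y ⟶ Z} (hf : IsMonHom f) (hg : IsMonHom g) : IsMonHom (f ≫ g) :=
  inferInstance

end Groth.Abvar
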