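import Groth.Agent.AlgGrp1.Rigidity
import Mathlib.AlgebraicGeometry.Group.Abelian
import Mathlib.AlgebraicGeometry.Geometrically.Integral
import Mathlib.AlgebraicGeometry.Geometrically.Connected

/-!
# Morphisms into group schemes from products with a proper factor
-/

universe u

open CategoryTheory MonoidalCategory CartesianMonoidalCategory MonObj GrpObj AlgebraicGeometry

namespace Groth.Abvar

variable {k : Type u} [Field k]

theorem isIntegral_left (X : Over (Spec (CommRingCat.of k))) [GeometricallyIntegral X.hom] :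
    IsIntegral X.left :=
  GeometricallyIntegral.isIntegral_of_subsingleton X.hom

theorem hasConstFunctions (X : Over (Spec (CommRingCat.of k))) [IsProper X.hom]
    [GeometricallyIntegral X.hom] (x₀ : 𝟙_ _ ⟶ X) : AlgGrp1.HasConstFunctions X := by
  have := isIntegral_left X
  exact AlgGrp1.hasConstFunctions_of_isIntegral x₀

theorem preconnectedSpace_left (X : Over (Spec (CommRingCat.of k))) [GeometricallyIntegral X.hom] :
    PreconnectedSpace X.left := by
  have := isIntegral_left X
  infer_instance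

variable {X Y Z : Over (Spec (CommRingCat.of k))}

/-- Rigidity: if `f` is constant on `X × {y₀}`, it factors through the second projection. -/
theorem rigidity [IsProper X.hom] [GeometricallyIntegral X.hom] [LocallyOfFiniteType Y.hom]
    [PreconnectedSpace Y.left] [IsSeparated Z.hom] (x₀ : 𝟙_ _ ⟶ X) (y₀ : 𝟙_ _ ⟶ Y)
    (z₀ : 𝟙_ _ ⟶ Z) (f : X ⊗ Y ⟶ Z) (hf : lift (𝟙 X) (toUnit X ≫ y₀) ≫ f = toUnit X ≫ z₀) :
    f = snd X Y ≫ lift (toUnit Y ≫ x₀) (𝟙 Y) ≫ f := by
  have := AlgGrp1.isLocallyNoetherian_left Y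
  refine AlgGrp1.eq_snd_comp_of_const (hasConstFunctions X x₀) x₀ y₀ z₀ f ?_
  have e : X ◁ y₀ = fst X (𝟙_ _) ≫ lift (𝟙 X) (toUnit X ≫ y₀) := by
    ext1
    · simp
    · rw [whiskerLeft_snd, Category.assoc, lift_snd, ← Category.assoc]
      congr 1
      exact toUnit_unique _ _
  rw [e, Category.assoc, hf, ← Category.assoc]
  congr 1
/-- A morphism from a product with a proper factor into a group scheme, taking the base point to
the unit, is the product of its restrictions. -/
theorem eq_mul_of_pointed [IsProper X.hom] [GeometricallyIntegral X.hom] [LocallyOfFiniteType Y.hom]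
    [PreconnectedSpace Y.left] [GrpObj Z] (x₀ : 𝟙_ _ ⟶ X) (y₀ : 𝟙_ _ ⟶ Y) (h : X ⊗ Y ⟶ Z)
    (h0 : lift x₀ y₀ ≫ h = η[Z]) :
    h = (snd X Y ≫ lift (toUnit Y ≫ x₀) (𝟙 Y) ≫ h) * (fst X Y ≫ lift (𝟙 X) (toUnit X ≫ y₀) ≫ h) := by
  have := AlgGrp1.isSeparated_grpObj Z
  set a := lift (𝟙 X) (toUnit X ≫ y₀) ≫ h with ha
  set b := lift (toUnit Y ≫ x₀) (𝟙 Y) ≫ h with hb
  have h1 : x₀ ≫ a = 1 := by
    rw [ha, comp_lift_assoc, Category.comp_id, ← Category.assoc, toUnit_unique (x₀ ≫ toUnit X) (𝟙 _),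
      Category.id_comp, h0, Hom.one_def, toUnit_unique (toUnit (𝟙_ _)) (𝟙 _), Category.id_comp]
  have key := rigidity x₀ y₀ η[Z] (h * (fst X Y ≫ a)⁻¹) (by
    rw [MonObj.comp_mul, GrpObj.comp_inv, lift_fst_assoc, Category.id_comp, ← ha, mul_inv_cancel,
      Hom.one_def])
  have e : lift (toUnit Y ≫ x₀) (𝟙 Y) ≫ (h * (fst X Y ≫ a)⁻¹) = b := by
    rw [MonObj.comp_mul, GrpObj.comp_inv, lift_fst_assoc, Category.assoc, h1, MonObj.comp_one,
      inv_one, _root_.mul_one, hb]
  rw [e] at key
  rw [← key, inv_mul_cancel_right]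

/-- A morphism of group schemes with proper geometrically integral source which preserves the
unit is a homomorphism. -/
theorem isMonHom_of_one [GrpObj X] [IsProper X.hom] [GeometricallyIntegral X.hom] [GrpObj Z]
    (f : X ⟶ Z) (hf : η[X] ≫ f = η[Z]) : IsMonHom f := by
  have := preconnectedSpace_left X
  have key := eq_mul_of_pointed η[X] η[X] ((snd X X * fst X X) ≫ f) (by
    rw [MonObj.comp_mul_assoc, lift_fst, lift_snd,
      show (η[X] : 𝟙_ _ ⟶ X) = 1 by rw [Hom.one_def, toUnit_unique (toUnit (𝟙_ _)) (𝟙 _), Category.id_comp],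
      _root_.mul_one,
      show (1 : 𝟙_ _ ⟶ X) = η[X] by rw [Hom.one_def, toUnit_unique (toUnit (𝟙_ _)) (𝟙 _), Category.id_comp],
      hf])
  simp only [MonObj.comp_mul_assoc, lift_fst, lift_snd, ← Hom.one_def, _root_.mul_one, _root_.one_mul,
    Category.id_comp] at key
  refine AlgGrp1.isMonHom_of_points f fun T a b => ?_
  have := congrArg (fun t => lift b a ≫ t) key
  simpa [MonObj.comp_mul_assoc, MonObj.comp_mul] using this

/-- A morphism of group schemes with proper geometrically integral source is a homomorphism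
followed by a translation. -/
theorem isMonHom_mul_inv [GrpObj X] [IsProper X.hom] [GeometricallyIntegral X.hom] [GrpObj Z]
    (f : X ⟶ Z) : IsMonHom (f * (toUnit X ≫ η[X] ≫ f)⁻¹) := by
  refine isMonHom_of_one _ ?_
  rw [MonObj.comp_mul, GrpObj.comp_inv, ← Category.assoc, toUnit_unique (η[X] ≫ toUnit X) (𝟙 _),
    Category.id_comp, mul_inv_cancel, Hom.one_def, toUnit_unique (toUnit (𝟙_ _)) (𝟙 _),
    Category.id_comp]

end Groth.Abvar
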