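import Groth.Agent.Agf.GeomRed
import Groth.Agent.AlgGrp1.Points
import Groth.Agent.AlgGrp1.Sub

/-!
# Small facts about schemes over an algebraically closed field
-/

universe u

open CategoryTheory Limits MonoidalCategory CartesianMonoidalCategory MonObj AlgebraicGeometry
  TopologicalSpace

namespace Groth.Abvar

variable {k : Type u} [Field k]

/-- The unit object as the spectrum of the ground field. -/
noncomputable def unitIsoSpecAlg : 𝟙_ (Over (Spec (CommRingCat.of k))) ≅ Groth.AlgGrp1.specAlg k k :=
  Over.isoMk (Iso.refl _) (by simp [Groth.AlgGrp1.specAlg, Over.tensorUnit_hom])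

/-- Closed points of schemes locally of finite type over an algebraically closed field are rational. -/
theorem exists_rationalPoint [IsAlgClosed k] (X : Over (Spec (CommRingCat.of k)))
    [LocallyOfFiniteType X.hom] {x : X.left} (hx : IsClosed ({x} : Set X.left)) :
    ∃ s : 𝟙_ (Over (Spec (CommRingCat.of k))) ⟶ X, s.left.base (IsLocalRing.closedPoint k) = x := by
  obtain ⟨s, hs⟩ := Groth.AlgGrp1.exists_point_over_closed k X x hx
  refine ⟨unitIsoSpecAlg.hom ≫ s, ?_⟩
  rw [← hs]
  rfl

/-- Reduced schemes locally of finite type over an algebraically closed field are geometrically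
reduced. -/
theorem geometricallyReduced_of_isAlgClosed [IsAlgClosed k] (X : Over (Spec (CommRingCat.of k)))
    [LocallyOfFiniteType X.hom] [IsReduced X.left] : GeometricallyReduced X.hom := by
  refine Groth.Agf.geometricallyReduced_of_dense_points X ?_
  have := LocallyOfFiniteType.jacobsonSpace X.hom
  refine Dense.mono (fun x hx => ?_) (dense_iff_closure_eq.2 (closure_closedPoints (X := X.left)))
  obtain ⟨s, hs⟩ := exists_rationalPoint X hx
  exact ⟨s, ⟨_, hs⟩⟩

/-- A closed subset carries a reduced closed subscheme. -/
theorem exists_reduced_on {S : Scheme.{u}} (X : Over S) (C : Closeds X.left) :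
    ∃ (Z : Over S) (c : Z ⟶ X), IsClosedImmersion c.left ∧ IsReduced Z.left ∧
      Set.range c.left.base = (C : Set X.left) := by
  let I := Scheme.IdealSheafData.vanishingIdeal C
  obtain ⟨Z, c, hc, hs, hr⟩ := Groth.AlgGrp1.exists_reduced (Over.mk (I.subschemeι ≫ X.hom))
  refine ⟨Z, c ≫ Over.homMk I.subschemeι rfl, ?_, hr, ?_⟩
  · exact inferInstanceAs (IsClosedImmersion (c.left ≫ I.subschemeι))
  · rw [Over.comp_left, Scheme.Hom.comp_base, TopCat.coe_comp, Set.range_comp, hs.surj.range_eq,
      Set.image_univ]
    show Set.range I.subschemeι.base = _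
    rw [Scheme.IdealSheafData.range_subschemeι, Scheme.IdealSheafData.coe_support_vanishingIdeal]

end Groth.Abvar
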