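import Groth.Agent.Agf.ImageSubgroup
import Groth.Agent.Agf.GeomRed
import Groth.Agent.AlgGrp1.Geom
import Groth.Agent.Flatmor4.ImageDom
import Groth.Agent.Abvar.Rigidity

/-!
# Images of homomorphisms of abelian varieties
-/

universe u

open CategoryTheory Limits MonoidalCategory CartesianMonoidalCategory MonObj AlgebraicGeometry
  TopologicalSpace

namespace Groth.Abvar

variable {k : Type u} [Field k]

/-- The image of a homomorphism from a proper geometrically integral group is a closed subgroup of
the same kind onto which it maps surjectively. -/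
theorem exists_image {X Y : Over (Spec (CommRingCat.of k))} [GrpObj X] [GrpObj Y]
    [IsProper X.hom] [GeometricallyIntegral X.hom] [IsProper Y.hom] (f : X ⟶ Y) [IsMonHom f] :
    ∃ (I : Over (Spec (CommRingCat.of k))) (_ : GrpObj I) (i : I ⟶ Y) (g : X ⟶ I),
      IsMonHom i ∧ IsMonHom g ∧ IsClosedImmersion i.left ∧ Surjective g.left ∧ g ≫ i = f ∧
      IsProper I.hom ∧ GeometricallyIntegral I.hom := by
  have hint := isIntegral_left X
  have : IsProper (f.left ≫ Y.hom) := by rw [Over.w]; infer_instance
  have : IsProper f.left := IsProper.of_comp f.left Y.hom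
  let I : Over (Spec (CommRingCat.of k)) := Over.mk (f.left.imageι ≫ Y.hom)
  let i : I ⟶ Y := Over.homMk f.left.imageι rfl
  let g : X ⟶ I := Over.homMk f.left.toImage (by
    show f.left.toImage ≫ f.left.imageι ≫ Y.hom = X.hom
    rw [Scheme.Hom.toImage_imageι_assoc, Over.w])
  have hgi : g ≫ i = f := by ext; exact Scheme.Hom.toImage_imageι f.left
  have : IsClosedImmersion i.left := inferInstanceAs (IsClosedImmersion f.left.imageι)
  have : IsSchemeTheoreticallyDominant g.left :=
    Groth.Flatmor4.isSchemeTheoreticallyDominant_toImage f.left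
  have : QuasiCompact g.left := inferInstanceAs (QuasiCompact f.left.toImage)
  obtain ⟨inst, hi, hg⟩ := Groth.Agf.exists_grpObj_image f i g hgi
  have hsurj : Surjective g.left := Groth.Agf.surjective_of_dominant g
  have hP : IsProper I.hom := inferInstanceAs (IsProper (f.left.imageι ≫ Y.hom))
  have : GeometricallyReduced (g.left ≫ I.hom) := by rw [Over.w]; infer_instance
  have := Groth.Agf.geometricallyReduced_of_dominant g.left I.hom
  have : ConnectedSpace I.left := hsurj.surj.connectedSpace g.left.continuous
  have := Groth.AlgGrp1.geometricallyIrreducible_of_connected I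
  exact ⟨I, inst, i, g, hi, hg, ‹_›, hsurj, hgi, hP,
    GeometricallyIntegral.of_geometricallyReduced_of_geometricallyIrreducible I.hom⟩

end Groth.Abvar
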