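import Groth.Agent.PicAux.PicLaw
import Groth.Agent.PicAux.TensorLift
import Mathlib.AlgebraicGeometry.Group.Abelian

/-!
# Calculus of invertible classes along points of schemes over a base
-/

universe u

open CategoryTheory MonoidalCategory CartesianMonoidalCategory MonObj GrpObj AlgebraicGeometry
open TopologicalSpace

namespace Groth.Abvar.PicCalc

/-- The group law of the Picard group. -/
noncomputable scoped instance law (X : Scheme.{u}) : PicGrp.Law X := PicAux.picLaw X

variable {X Y Z : Scheme.{u}}

theorem pullMulCl (f : X ⟶ Y) : PicGrp.PullMul f := fun c d hc hd => PicAux.pullMul f ⟨c, hc⟩ ⟨d, hd⟩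

/-- Inverse image of invertible classes. -/
noncomputable def pull (f : X ⟶ Y) : PicLoc.PicSet Y →* PicLoc.PicSet X :=
  PicGrp.pullHom f (pullMulCl f)

/-- The class of an invertible module. -/
abbrev cls {L : X.Modules} (hL : PicF.IsInvertible L) : PicLoc.PicSet X := PicGrp.cls L hL

theorem pull_cls (f : X ⟶ Y) {L : Y.Modules} (hL : PicF.IsInvertible L) :
    pull f (cls hL) = cls (PicLoc.isInvertible_pullback f hL) :=
  PicGrp.pullHom_cls f _ L hL

theorem pull_comp (f : X ⟶ Y) (g : Y ⟶ Z) (c : PicLoc.PicSet Z) :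
    pull (f ≫ g) c = pull f (pull g c) :=
  PicGrp.pullHom_comp_apply f g _ _ _ c

theorem pull_id (c : PicLoc.PicSet X) : pull (𝟙 X) c = c := PicGrp.pullHom_id_apply _ c

theorem nonempty_iso_iff {L M : X.Modules} (hL : PicF.IsInvertible L) (hM : PicF.IsInvertible M) :
    Nonempty (L ≅ M) ↔ cls hL = cls hM := (PicGrp.cls_eq_cls_iff hL hM).symm

theorem nonempty_iso_structure_iff {L : X.Modules} (hL : PicF.IsInvertible L) :
    Nonempty (L ≅ Coh.structureModule X) ↔ cls hL = 1 := (PicGrp.cls_eq_one_iff hL).symm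

theorem isInvertible_tensorMod {L M : X.Modules} (hL : PicF.IsInvertible L) (hM : PicF.IsInvertible M) :
    PicF.IsInvertible (CohB1.tensorMod L M) := PicAux.isInvertible_tensorMod hL hM

theorem cls_tensorMod {L M : X.Modules} (hL : PicF.IsInvertible L) (hM : PicF.IsInvertible M) :
    cls (isInvertible_tensorMod hL hM) = cls hL * cls hM :=
  Subtype.ext (PicGrp.cls_mul_cls_val hL hM).symm

theorem isInvertible_tensorPow {L : X.Modules} (hL : PicF.IsInvertible L) (n : ℕ) :
    PicF.IsInvertible (CohB1.tensorPow L n) := by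
  induction n with
  | zero => exact PicLoc.isInvertible_structureModule X
  | succ n ih => exact isInvertible_tensorMod ih hL

theorem cls_tensorPow {L : X.Modules} (hL : PicF.IsInvertible L) (n : ℕ) :
    cls (isInvertible_tensorPow hL n) = cls hL ^ n :=
  Subtype.ext (PicGrp.cls_pow_val hL n).symm

theorem isInvertible_of_iso {L M : X.Modules} (hL : PicF.IsInvertible L) (e : L ≅ M) :
    PicF.IsInvertible M := by
  obtain ⟨U, s, hU, -, hs⟩ := PicAux.exists_gen_cover hL
  exact PicAux.isInvertible_of_gen_cover U hU _ fun i => (hs i).map e.hom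

/-- If `A` and `A ⊗ N` are invertible then so is `N`. -/
theorem isInvertible_of_tensorMod {A N : X.Modules} (hA : PicF.IsInvertible A)
    (h : PicF.IsInvertible (CohB1.tensorMod A N)) : PicF.IsInvertible N := by
  obtain ⟨B, hB, ⟨e⟩⟩ := PicAux.exists_inverse hA
  obtain ⟨α, -⟩ := PicAux.exists_associator B A N
  obtain ⟨l, -⟩ := PicAux.exists_leftUnitor N
  exact isInvertible_of_iso (isInvertible_tensorMod hB h)
    (α.symm ≪≫ PicGrp.tensorModIso e (Iso.refl N) ≪≫ l)

/-- Invertible modules on a one-point scheme are trivial. -/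
theorem eq_one_of_subsingleton [Subsingleton X] (c : PicLoc.PicSet X) : c = 1 := by
  obtain ⟨L, hL, rfl⟩ := PicGrp.exists_eq_cls c
  rw [PicGrp.cls_eq_one_iff, PicAux.nonempty_iso_structure_iff]
  rcases isEmpty_or_nonempty X with hX | ⟨⟨x⟩⟩
  · refine ⟨0, fun V hV => ?_⟩
    have : Subsingleton Γ(L, V) := by
      refine ⟨fun a b => PicAux.res_ext (fun i : X => V) (fun _ => le_rfl) ?_ fun i => (IsEmpty.false i).elim⟩
      exact fun x _ => (IsEmpty.false x).elim
    have : Subsingleton Γ(X, V) := by
      have : V = ⊥ := Opens.ext (Set.eq_empty_of_isEmpty _)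
      subst this; infer_instance
    exact ⟨fun a b _ => Subsingleton.elim _ _, fun y => ⟨0, Subsingleton.elim _ _⟩⟩
  · obtain ⟨U, s, -, hxU, hs⟩ := PicAux.exists_gen_cover hL
    have hU : U x = ⊤ := eq_top_iff.mpr fun y _ => (Subsingleton.elim x y) ▸ hxU x
    exact ⟨PicAux.res L hU.ge (s x), (hs x).res hU.ge⟩

section Over

variable {S : Scheme.{u}} {A B C : Over S}

/-- Inverse image of classes along a morphism over `S`. -/
noncomputable abbrev opull (f : A ⟶ B) : PicLoc.PicSet B.left →* PicLoc.PicSet A.left := pull f.left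

theorem opull_comp (f : A ⟶ B) (g : B ⟶ C) (c : PicLoc.PicSet C.left) :
    opull (f ≫ g) c = opull f (opull g c) := pull_comp f.left g.left c

theorem opull_id (c : PicLoc.PicSet A.left) : opull (𝟙 A) c = c := pull_id c

end Over

section OverField

variable {k : Type u} [Field k] {A B : Over (Spec (CommRingCat.of k))}

/-- A class pulled back along a constant morphism is trivial. -/
theorem opull_toUnit_comp (b : 𝟙_ _ ⟶ B) (c : PicLoc.PicSet B.left) :
    opull (toUnit A ≫ b) c = 1 := by
  have : Subsingleton ↥(𝟙_ (Over (Spec (CommRingCat.of k)))).left :=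
    inferInstanceAs (Subsingleton ↥(Spec (CommRingCat.of k)))
  rw [opull_comp, eq_one_of_subsingleton (opull b c), map_one]

theorem opull_one [GrpObj B] (c : PicLoc.PicSet B.left) : opull (1 : A ⟶ B) c = 1 :=
  opull_toUnit_comp η[B] c

end OverField

end Groth.Abvar.PicCalc
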