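import Mathlib

/-!
# Bilinear forms invariant up to a scalar under an automorphism
-/

namespace Groth.Abvar.FormIsometry

open Polynomial

variable {k V : Type*} [Field k] [AddCommGroup V] [Module k V]
variable (B : LinearMap.BilinForm k V) (M : Module.End k V)

theorem pow_apply_mul {q : k} (hM : ∀ x y, B (M x) (M y) = q * B x y) (n : ℕ) (x y : V) :
    B ((M ^ n) x) ((M ^ n) y) = q ^ n * B x y := by
  induction n with
  | zero => simp
  | succ n ih =>
    rw [pow_succ', Module.End.mul_apply, Module.End.mul_apply, hM, ih]; ring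

theorem aeval_adjoint (hM : ∀ x y, B (M x) (M y) = B x y) (p : k[X]) {d : ℕ} (hd : p.natDegree ≤ d)
    (x w : V) : B (aeval M p x) ((M ^ d) w) = B x (aeval M (p.reflect d) w) := by
  classical
  revert x
  refine Polynomial.induction_with_natDegree_le
    (fun p => ∀ x, B (aeval M p x) ((M ^ d) w) = B x (aeval M (p.reflect d) w)) d
    (by simp) ?_ ?_ p hd
  · intro i r _ hi x
    rw [reflect_C_mul_X_pow]
    simp only [map_mul, aeval_C, aeval_X_pow, Module.End.mul_apply, Module.algebraMap_end_apply,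
      map_smul, LinearMap.smul_apply, smul_eq_mul]
    congr 1
    rw [revAt_le hi, ← Nat.add_sub_cancel' hi, pow_add, Module.End.mul_apply,
      pow_apply_mul B M (q := 1) (fun a b => by rw [hM, one_mul]), one_pow, one_mul,
      Nat.add_sub_cancel_left]
  · intro f g _ _ ihf ihg x
    simp only [map_add, reflect_add, LinearMap.add_apply, ihf, ihg]

theorem mem_genKer (T : Module.End k V) (x : V) :
    x ∈ (⨆ n : ℕ, LinearMap.ker (T ^ n)) ↔ ∃ n, (T ^ n) x = 0 := by
  rw [Submodule.mem_iSup_of_directed _ (Monotone.directed_le fun a b hab y hy => by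
    obtain ⟨j, rfl⟩ := Nat.exists_eq_add_of_le hab
    rw [LinearMap.mem_ker, add_comm, pow_add, Module.End.mul_apply, LinearMap.mem_ker.mp hy, map_zero])]
  simp [LinearMap.mem_ker]

theorem reverse_pow (Q : k[X]) (n : ℕ) : (Q ^ n).reverse = Q.reverse ^ n := by
  induction n with
  | zero => rw [pow_zero, pow_zero, ← C_1, reverse_C]
  | succ n ih => rw [pow_succ, pow_succ, reverse_mul_of_domain, ih]

theorem isUnit_pow (hbij : Function.Bijective M) (n : ℕ) : Function.Bijective (M ^ n : Module.End k V) := by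
  induction n with
  | zero => exact Function.bijective_id
  | succ n ih => rw [pow_succ]; exact ih.comp hbij

theorem ortho (hM : ∀ x y, B (M x) (M y) = B x y) (hbij : Function.Bijective M)
    (Q₁ Q₂ : k[X]) (h : IsCoprime Q₁.reverse Q₂) (x y : V)
    (hx : ∃ n : ℕ, (aeval M Q₁ ^ n) x = 0) (hy : ∃ n : ℕ, (aeval M Q₂ ^ n) y = 0) : B x y = 0 := by
  obtain ⟨n, hn⟩ := hx
  obtain ⟨m, hm⟩ := hy
  obtain ⟨a, b, hab⟩ := h.pow (m := n) (n := m)
  have hy' : y = aeval M (Q₁ ^ n).reverse (aeval M a y) := by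
    have := congrArg (fun p => aeval M p y) hab
    simp only [map_add, map_mul, map_pow, map_one, LinearMap.add_apply, Module.End.mul_apply,
      Module.End.one_apply, hm, map_zero, add_zero] at this
    rw [reverse_pow, ← Module.End.mul_apply, ← map_mul, mul_comm, map_mul, Module.End.mul_apply,
      map_pow]
    exact this.symm
  rw [hy', Polynomial.reverse, ← aeval_adjoint B M hM _ le_rfl, map_pow, hn, map_zero,
    LinearMap.zero_apply]

theorem restrict_nondegenerate [FiniteDimensional k V] (hM : ∀ x y, B (M x) (M y) = B x y)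
    (hbij : Function.Bijective M) (hB : B.Nondegenerate) (Q : k[X]) (hQ : Associated Q Q.reverse) :
    (B.restrict (⨆ n : ℕ, LinearMap.ker (aeval M Q ^ n))).Nondegenerate := by
  set T := aeval M Q with hT
  obtain ⟨u, hu⟩ := hQ
  have hrev : ∀ n : ℕ, ∃ c : k, c ≠ 0 ∧ ∀ v, aeval M (Q ^ n).reverse v = c • (T ^ n) v := by
    intro n
    obtain ⟨c, hc, hcu⟩ := Polynomial.isUnit_iff.mp u.isUnit
    refine ⟨c ^ n, pow_ne_zero _ hc.ne_zero, fun v => ?_⟩
    rw [reverse_pow, ← hu, ← hcu, mul_pow, ← C_pow, mul_comm, map_mul, aeval_C, Module.End.mul_apply,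
      Module.algebraMap_end_apply, map_pow, hT]
  have hmem : ∀ x, x ∈ (⨆ n : ℕ, LinearMap.ker (T ^ n)) → ∃ n, ∀ m, n ≤ m → (T ^ m) x = 0 := by
    intro x hx
    obtain ⟨n, hn⟩ := (mem_genKer T x).mp hx
    refine ⟨n, fun m hm => ?_⟩
    obtain ⟨j, rfl⟩ := Nat.exists_eq_add_of_le hm
    rw [add_comm, pow_add, Module.End.mul_apply, hn, map_zero]
  have hL : ∀ x ∈ (⨆ n : ℕ, LinearMap.ker (T ^ n)), ∀ y ∈ ⨅ n : ℕ, LinearMap.range (T ^ n),
      B x y = 0 ∧ B y x = 0 := by
    intro x hx y hy
    obtain ⟨n, hn⟩ := hmem x hx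
    rw [Submodule.mem_iInf] at hy
    obtain ⟨z, rfl⟩ := hy n
    obtain ⟨c, hc, hcv⟩ := hrev n
    have key := aeval_adjoint B M hM (Q ^ n) (le_refl (Q ^ n).natDegree)
    rw [← Polynomial.reverse, map_pow, ← hT] at key
    refine ⟨?_, ?_⟩
    · have := key x z
      rw [hn n le_rfl, map_zero, LinearMap.zero_apply, hcv, map_smul, smul_eq_mul] at this
      exact (mul_eq_zero.mp this.symm).resolve_left hc
    · obtain ⟨x', hx'⟩ := (isUnit_pow M hbij (Q ^ n).natDegree).2 x
      have hcomm : Commute (T ^ n) (M ^ (Q ^ n).natDegree) := by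
        refine Commute.pow_pow ?_ _ _
        simpa using (Commute.all Q (X : k[X])).map (aeval M)
      have hx0 : (T ^ n) x' = 0 := by
        apply (isUnit_pow M hbij (Q ^ n).natDegree).1
        rw [← Module.End.mul_apply, ← hcomm.eq, Module.End.mul_apply, hx', hn n le_rfl, map_zero]
      rw [← hx', key, hcv, hx0, smul_zero, map_zero]
  have hc := LinearMap.isCompl_iSup_ker_pow_iInf_range_pow T
  constructor
  · rintro ⟨x, hx⟩ h
    apply Subtype.ext
    refine hB.1 x fun y => ?_
    obtain ⟨a, ha, b, hb, rfl⟩ := Submodule.mem_sup.mp (hc.sup_eq_top ▸ Submodule.mem_top : y ∈ _)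
    rw [map_add, (hL x hx b hb).1, add_zero]
    exact h ⟨a, ha⟩
  · rintro ⟨x, hx⟩ h
    apply Subtype.ext
    refine hB.2 x fun y => ?_
    obtain ⟨a, ha, b, hb, rfl⟩ := Submodule.mem_sup.mp (hc.sup_eq_top ▸ Submodule.mem_top : y ∈ _)
    rw [map_add, LinearMap.add_apply, (hL x hx b hb).2, add_zero]
    exact h ⟨a, ha⟩

section Conformal

variable {q : k}

theorem adjoint_pow (hM : ∀ x y, B (M x) (M y) = q * B x y) (n : ℕ) (x w : V) :
    B (((M - 1) ^ n) x) ((M ^ n) w) = (-1) ^ n * B x (((M - algebraMap k _ q) ^ n) w) := by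
  induction n generalizing x w with
  | zero => simp
  | succ n ih =>
    have hcomm : Commute (M ^ n) M := (Commute.refl M).pow_left n
    rw [pow_succ (M - 1), Module.End.mul_apply, pow_succ (M), Module.End.mul_apply, ih,
      pow_succ' (M - algebraMap k _ q), Module.End.mul_apply]
    have e : ((M - algebraMap k _ q) ^ n) (M w) = M (((M - algebraMap k _ q) ^ n) w) := by
      rw [← Module.End.mul_apply, ← Module.End.mul_apply]
      congr 1
      exact (((Commute.refl M).sub_left (Algebra.commutes q M)).pow_left n).eq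
    rw [e]
    generalize ((M - algebraMap k _ q) ^ n) w = v
    simp only [LinearMap.sub_apply, Module.End.one_apply, Module.algebraMap_end_apply, map_sub,
      map_smul, smul_eq_mul, hM]
    ring

theorem conformal [FiniteDimensional k V] (hM : ∀ x y, B (M x) (M y) = q * B x y)
    (hbij : Function.Bijective M) (hB : B.Nondegenerate) :
    (∀ x ∈ Module.End.maxGenEigenspace M 1,
        (∀ y ∈ Module.End.maxGenEigenspace M q, B x y = 0) → x = 0) ∧
      (∀ y ∈ Module.End.maxGenEigenspace M q,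
        (∀ x ∈ Module.End.maxGenEigenspace M 1, B x y = 0) → y = 0) ∧
      (q ≠ 1 → ∀ x ∈ Module.End.maxGenEigenspace M 1,
        ∀ x' ∈ Module.End.maxGenEigenspace M 1, B x x' = 0) ∧
      (q ≠ 1 → ∀ y ∈ Module.End.maxGenEigenspace M q,
        ∀ y' ∈ Module.End.maxGenEigenspace M q, B y y' = 0) := by
  set P : Module.End k V := M - 1 with hP
  set R : Module.End k V := M - algebraMap k _ q with hR
  have hmax : ∀ (a : k) (T : Module.End k V), T = M - algebraMap k _ a → ∀ x,
      x ∈ Module.End.maxGenEigenspace M a ↔ x ∈ ⨆ n : ℕ, LinearMap.ker (T ^ n) := by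
    intro a T hT x
    rw [Module.End.mem_maxGenEigenspace, mem_genKer, hT, Algebra.algebraMap_eq_smul_one]
  have hm1 := hmax 1 P (by rw [hP, map_one])
  have hmq := hmax q R hR
  have hker : ∀ (T : Module.End k V) x, x ∈ (⨆ n : ℕ, LinearMap.ker (T ^ n)) →
      ∃ n, (T ^ n) x = 0 := fun T x hx => (mem_genKer T x).mp hx
  have hright : ∀ x, (∃ n, (P ^ n) x = 0) → ∀ y, (∀ n, y ∈ LinearMap.range (R ^ n)) → B x y = 0 := by
    rintro x ⟨n, hn⟩ y hy
    obtain ⟨z, rfl⟩ := hy n
    have := adjoint_pow B M hM n x z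
    rw [← hP, ← hR, hn, map_zero, LinearMap.zero_apply] at this
    exact (mul_eq_zero.mp this.symm).resolve_left (pow_ne_zero _ (by norm_num))
  have hleft : ∀ y, (∃ n, (R ^ n) y = 0) → ∀ x, (∀ n, x ∈ LinearMap.range (P ^ n)) → B x y = 0 := by
    rintro y ⟨n, hn⟩ x hx
    obtain ⟨z, rfl⟩ := hx n
    obtain ⟨y', hy'⟩ := (isUnit_pow M hbij n).2 y
    have hc : Commute (R ^ n) (M ^ n) :=
      (((Commute.refl M).sub_left (Algebra.commutes q M))).pow_pow n n
    have h0 : (R ^ n) y' = 0 := by
      apply (isUnit_pow M hbij n).1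
      rw [← Module.End.mul_apply, ← hc.eq, Module.End.mul_apply, hy', hn, map_zero]
    rw [← hy', hP, adjoint_pow B M hM n z y', ← hR, h0, map_zero, mul_zero]
  have hrange : q ≠ 1 → ∀ (a b : k), a ≠ b → ∀ x, (∃ n : ℕ, ((M - algebraMap k (Module.End k V) a) ^ n) x = 0) →
      ∀ m : ℕ, x ∈ LinearMap.range ((M - algebraMap k (Module.End k V) b) ^ m) := by
    rintro - a b hab x ⟨n, hn⟩ m
    obtain ⟨s, t, hst⟩ := (Polynomial.isCoprime_X_sub_C_of_isUnit_sub
      (R := k) (a := a) (b := b) (sub_ne_zero.mpr hab).isUnit).pow (m := n) (n := m)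
    refine ⟨aeval M t x, ?_⟩
    have := congrArg (fun p => aeval M p x) hst
    simp only [map_add, map_mul, map_pow, map_sub, aeval_X, aeval_C, map_one, LinearMap.add_apply,
      Module.End.mul_apply, Module.End.one_apply, hn, map_zero, zero_add] at this
    rw [← Module.End.mul_apply]
    rw [show (M - algebraMap k _ b) ^ m * aeval M t = aeval M t * (M - algebraMap k _ b) ^ m by
      have := (Commute.all t ((X - C b) ^ m)).map (aeval M)
      simpa using this.eq.symm]
    exact this
  refine ⟨fun x hx h => hB.1 x fun y => ?_, fun y hy h => hB.2 y fun x => ?_, fun hq x hx x' hx' => ?_,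
    fun hq y hy y' hy' => ?_⟩
  · obtain ⟨a, ha, b, hb, rfl⟩ := Submodule.mem_sup.mp
      ((LinearMap.isCompl_iSup_ker_pow_iInf_range_pow R).sup_eq_top ▸ Submodule.mem_top : y ∈ _)
    rw [map_add, h a ((hmq a).mpr ha),
      hright x (hker P x ((hm1 x).mp hx)) b (fun n => Submodule.mem_iInf _ |>.mp hb n), add_zero]
  · obtain ⟨a, ha, b, hb, rfl⟩ := Submodule.mem_sup.mp
      ((LinearMap.isCompl_iSup_ker_pow_iInf_range_pow P).sup_eq_top ▸ Submodule.mem_top : x ∈ _)
    rw [map_add, LinearMap.add_apply, h a ((hm1 a).mpr ha),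
      hleft y (hker R y ((hmq y).mp hy)) b (fun n => Submodule.mem_iInf _ |>.mp hb n), add_zero]
  · refine hright x (hker P x ((hm1 x).mp hx)) x' (hrange hq 1 q (Ne.symm hq) x' ?_)
    simpa [map_one, ← hP] using hker P x' ((hm1 x').mp hx')
  · refine hleft y' (hker R y' ((hmq y').mp hy')) y ?_
    have := hrange hq q 1 hq y (hker R y ((hmq y).mp hy))
    simpa [map_one, ← hP] using this

end Conformal

end Groth.Abvar.FormIsometry
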