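import Mathlib

/-!
# Stable isotropic subspaces for a split commutative algebra of similitudes
-/

namespace Groth.Abvar.Isotropic

open Submodule

variable {K V : Type*} [Field K] [AddCommGroup V] [Module K V] [FiniteDimensional K V]

theorem exists_eigen {r : ℕ} (F : Subalgebra K (Module.End K V)) (φ : F ≃ₐ[K] (Fin r → K))
    (U P : Submodule K V) (hU : ∀ f ∈ F, ∀ w ∈ U, f w ∈ U) (h : ¬ U ≤ P) :
    ∃ x ∈ U, x ∉ P ∧ ∀ f ∈ F, ∃ a : K, f x = a • x := by
  classical
  obtain ⟨y, hyU, hyP⟩ := SetLike.not_le_iff_exists.mp h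
  set ε : Fin r → F := fun i => φ.symm (Pi.single i 1) with hε
  have hsum : ∑ i, ((ε i : Module.End K V)) y = y := by
    have h1 : ∑ i, ε i = 1 := by
      rw [hε, ← map_sum, Finset.univ_sum_single (fun _ : Fin r => (1 : K))]
      exact map_one φ.symm
    have := congrArg (fun f : F => (f : Module.End K V) y) h1
    simpa [AddSubmonoidClass.coe_finset_sum] using this
  obtain ⟨i, hi⟩ : ∃ i, (ε i : Module.End K V) y ∉ P := by
    by_contra hc
    push Not at hc
    exact hyP (hsum ▸ Submodule.sum_mem P fun i _ => hc i)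
  refine ⟨_, hU _ (ε i).2 y hyU, hi, fun f hf => ⟨φ ⟨f, hf⟩ i, ?_⟩⟩
  have h1 : (⟨f, hf⟩ : F) * ε i = (φ ⟨f, hf⟩ i) • ε i := by
    apply φ.injective
    simp only [hε, map_mul, map_smul, AlgEquiv.apply_symm_apply]
    ext j
    by_cases hj : j = i
    · subst hj; simp
    · simp [hj]
  exact congrArg (fun g : F => (g : Module.End K V) y) h1

theorem stable_of_maximal (g : ℕ) (hV : Module.finrank K V = 2 * g)
    (e : LinearMap.BilinForm K V) (he : e.IsAlt) (hnd : e.Nondegenerate)
    (F : Subalgebra K (Module.End K V)) (r : ℕ) (hF : Nonempty (F ≃ₐ[K] (Fin r → K)))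
    (S : Set (Module.End K V)) (hS : Submodule.span K S = Subalgebra.toSubmodule F)
    (hsim : ∀ s ∈ S, ∃ c : K, c ≠ 0 ∧ ∀ x y : V, e (s x) (s y) = c * e x y)
    (D : Set (Module.End K V))
    (hmax : ∀ W : Submodule K V, (∀ f ∈ F, ∀ w ∈ W, f w ∈ W) → (∀ x ∈ W, ∀ y ∈ W, e x y = 0) →
      Module.finrank K W = g → ∀ d ∈ D, ∀ w ∈ W, d w ∈ W) :
    ∀ (n : ℕ) (W : Submodule K V), n = g - Module.finrank K W → (∀ f ∈ F, ∀ w ∈ W, f w ∈ W) →
      (∀ x ∈ W, ∀ y ∈ W, e x y = 0) → ∀ d ∈ D, ∀ w ∈ W, d w ∈ W := by
  classical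
  obtain ⟨φ⟩ := hF
  have hskew : ∀ x y : V, e x y = - e y x := fun x y => (LinearMap.IsAlt.neg he y x).symm
  intro n
  induction n using Nat.strong_induction_on with
  | _ n ih =>
    intro W hn hWF hWiso d hd w hw
    set U := e.orthogonal W with hU
    have hmemU : ∀ x, x ∈ U ↔ ∀ u ∈ W, e u x = 0 := fun x => by
      rw [hU, LinearMap.BilinForm.mem_orthogonal_iff]
    have hdimU : Module.finrank K U = 2 * g - Module.finrank K W := by
      rw [hU, LinearMap.BilinForm.finrank_orthogonal hnd W, hV]
    have hWle : Module.finrank K W ≤ Module.finrank K U :=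
      Submodule.finrank_mono fun x hx => (hmemU x).mpr fun u hu => hWiso u hu x hx
    by_cases hg : Module.finrank K W = g
    · exact hmax W hWF hWiso hg d hd w hw
    have hlt : Module.finrank K W < g := by omega
    have hUF : ∀ f ∈ F, ∀ u ∈ U, f u ∈ U := by
      intro f hf u hu
      have hfspan : f ∈ Submodule.span K S := by rw [hS]; exact hf
      induction hfspan using Submodule.span_induction with
      | mem s hs =>
        obtain ⟨c, hc0, hc⟩ := hsim s hs
        have hsF : s ∈ F := by
          have := Submodule.subset_span (R := K) hs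
          rwa [hS] at this
        have hinj : Function.Injective s := by
          rw [← LinearMap.ker_eq_bot, LinearMap.ker_eq_bot']
          intro x hx
          refine hnd.1 x fun y => ?_
          have := hc x y
          rw [hx, map_zero, LinearMap.zero_apply] at this
          exact (mul_eq_zero.mp this.symm).resolve_left hc0
        obtain ⟨t, htF, ht⟩ : ∃ t ∈ F, ∀ x, s (t x) = x := by
          have hinj' : Function.Injective (LinearMap.mulLeft K (⟨s, hsF⟩ : F)) := fun a b hab =>
            Subtype.ext (LinearMap.ext fun x => hinj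
              (congrArg (fun g : F => (g : Module.End K V) x) hab))
          obtain ⟨t, ht⟩ := LinearMap.injective_iff_surjective.mp hinj' 1
          exact ⟨t, t.2, fun x => congrArg (fun g : F => (g : Module.End K V) x) ht⟩
        rw [hmemU] at hu ⊢
        intro v hv
        rw [← ht v, hc, hu _ (hWF t htF v hv), mul_zero]
      | zero => simp
      | add a b ha hb iha ihb =>
        rw [← SetLike.mem_coe, hS] at ha hb
        exact U.add_mem (iha ha) (ihb hb)
      | smul c a ha iha =>
        rw [← SetLike.mem_coe, hS] at ha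
        exact U.smul_mem c (iha ha)
    have step : ∀ x ∈ U, x ∉ W → (∀ f ∈ F, ∃ a : K, f x = a • x) → d w ∈ W ⊔ K ∙ x := by
      intro x hxU hxW hx
      refine ih (g - Module.finrank K ↥(W ⊔ K ∙ x)) ?_ (W ⊔ K ∙ x) rfl ?_ ?_ d hd w
        (Submodule.mem_sup_left hw)
      · have : Module.finrank K W < Module.finrank K ↥(W ⊔ K ∙ x) :=
          Submodule.finrank_lt_finrank_of_lt (lt_of_le_of_ne le_sup_left fun h => hxW
            (h ▸ Submodule.mem_sup_right (Submodule.mem_span_singleton_self x)))
        omega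
      · intro f hf v hv
        obtain ⟨a, ha, b, hb, rfl⟩ := Submodule.mem_sup.mp hv
        obtain ⟨c, rfl⟩ := Submodule.mem_span_singleton.mp hb
        obtain ⟨a', ha'⟩ := hx f hf
        rw [map_add, map_smul, ha', smul_smul]
        exact Submodule.add_mem _ (Submodule.mem_sup_left (hWF f hf a ha))
          (Submodule.mem_sup_right (Submodule.mem_span_singleton.mpr ⟨_, rfl⟩))
      · intro p hp q hq
        obtain ⟨a, ha, a', ha', rfl⟩ := Submodule.mem_sup.mp hp
        obtain ⟨b, hb, b', hb', rfl⟩ := Submodule.mem_sup.mp hq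
        obtain ⟨s, rfl⟩ := Submodule.mem_span_singleton.mp ha'
        obtain ⟨t, rfl⟩ := Submodule.mem_span_singleton.mp hb'
        have h1 := (hmemU x).mp hxU
        have h2 : e x b = 0 := by rw [hskew, h1 b hb, neg_zero]
        simp [hWiso a ha b hb, h1 a ha, h2, he.self_eq_zero x]
    obtain ⟨x₀, h0U, h0W, h0⟩ := exists_eigen F φ U W hUF (fun h => by
      have := Submodule.finrank_mono h; omega)
    obtain ⟨x₁, h1U, h1W, h1⟩ := exists_eigen F φ U (W ⊔ K ∙ x₀) hUF (fun h => by
      have h2 := Submodule.finrank_mono h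
      have h3 := Submodule.finrank_add_le_finrank_add_finrank W (K ∙ x₀)
      rw [finrank_span_singleton (fun h => h0W (by rw [h]; exact W.zero_mem))] at h3
      omega)
    obtain ⟨a, ha, a', ha', hda⟩ := Submodule.mem_sup.mp (step x₀ h0U h0W h0)
    obtain ⟨b, hb, b', hb', hdb⟩ := Submodule.mem_sup.mp
      (step x₁ h1U (fun h => h1W (Submodule.mem_sup_left h)) h1)
    obtain ⟨t, rfl⟩ := Submodule.mem_span_singleton.mp hb'
    by_cases ht : t = 0
    · rw [← hdb, ht, zero_smul, add_zero]; exact hb
    · refine absurd ?_ h1W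
      have h4 : t • x₁ = (a - b) + a' := by rw [← add_sub_right_comm, hda, ← hdb]; abel
      rw [← inv_smul_smul₀ ht x₁, h4]
      exact Submodule.smul_mem _ _ (Submodule.add_mem _
        (Submodule.mem_sup_left (W.sub_mem ha hb)) (Submodule.mem_sup_right ha'))

end Groth.Abvar.Isotropic
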