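import Groth.Agent.Abvar.PicCalc
import Groth.Prelude.Def_ThetaGrp

/-!
# The Mumford bundle of an invertible module along points of a group scheme
-/

universe u

open CategoryTheory MonoidalCategory CartesianMonoidalCategory MonObj GrpObj AlgebraicGeometry

namespace Groth.Abvar.Mumford

open PicCalc

variable {k : Type u} [Field k] {X T : Over (Spec (CommRingCat.of k))} [GrpObj X]

/-- The class `l` is additive along translation by the point `z`. -/
def Additive' (l : PicLoc.PicSet X.left) (z : T ⟶ X) : Prop :=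
  opull (fst X T * (snd X T ≫ z)) l = opull (fst X T) l * opull (snd X T ≫ z) l

theorem whiskerLeft_mul (z : T ⟶ X) : (X ◁ z) ≫ μ[X] = fst X T * (snd X T ≫ z) := by
  rw [Hom.mul_def]
  congr 1

theorem transl_fst' (z : T ⟶ X) : ThetaGrp.transl X z ≫ fst X T = fst X T * (snd X T ≫ z) :=
  ThetaGrp.transl_fst X z

theorem opull_section_mul (z : T ⟶ X) (l : PicLoc.PicSet X.left) :
    opull (lift 1 (𝟙 T)) (opull (fst X T * (snd X T ≫ z)) l) = opull z l := by
  rw [← opull_comp, MonObj.comp_mul, lift_fst, lift_snd_assoc, Category.id_comp, _root_.one_mul]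

theorem opull_section_fst (l : PicLoc.PicSet X.left) :
    opull (lift 1 (𝟙 T)) (opull (fst X T) l) = 1 := by
  rw [← opull_comp, lift_fst, opull_one]

theorem opull_section_snd (m : PicLoc.PicSet T.left) :
    opull (lift (1 : T ⟶ X) (𝟙 T)) (opull (snd X T) m) = m := by
  rw [← opull_comp, lift_snd, opull_id]

theorem mumford_eq_one {l : PicLoc.PicSet X.left} {z : T ⟶ X} {m : PicLoc.PicSet T.left}
    (h : opull (snd X T) m * opull (fst X T) l * opull (snd X T ≫ z) l =
      opull (fst X T * (snd X T ≫ z)) l) : m = 1 := by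
  have h' := congrArg (opull (lift (1 : T ⟶ X) (𝟙 T))) h
  rw [map_mul, map_mul, opull_section_snd, opull_section_fst, opull_section_mul, _root_.mul_one,
    opull_comp (snd X T) z, opull_section_snd] at h'
  exact mul_eq_right.mp h'

theorem isMumfordTriv_iff {L : X.left.Modules} (hL : PicF.IsInvertible L) (z : T ⟶ X) :
    ThetaGrp.IsMumfordTriv X L z ↔ Additive' (cls hL) z := by
  constructor
  · rintro ⟨M, hM, he⟩
    rw [whiskerLeft_mul] at he
    have hm := PicLoc.isInvertible_pullback (snd X T).left hM
    have hp := PicLoc.isInvertible_pullback (fst X T).left hL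
    have hq := PicLoc.isInvertible_pullback (snd X T ≫ z).left hL
    have h := (nonempty_iso_iff (isInvertible_tensorMod (isInvertible_tensorMod hm hp) hq)
      (PicLoc.isInvertible_pullback _ hL)).mp he
    rw [cls_tensorMod (isInvertible_tensorMod hm hp) hq, cls_tensorMod hm hp, ← pull_cls _ hM, ← pull_cls _ hL, ← pull_cls _ hL, ← pull_cls _ hL] at h
    rw [mumford_eq_one h, map_one, _root_.one_mul] at h
    exact h.symm
  · intro h
    refine ⟨Coh.structureModule _, PicLoc.isInvertible_structureModule _, ?_⟩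
    rw [whiskerLeft_mul]
    have hm := PicLoc.isInvertible_pullback (snd X T).left (PicLoc.isInvertible_structureModule T.left)
    have hp := PicLoc.isInvertible_pullback (fst X T).left hL
    have hq := PicLoc.isInvertible_pullback (snd X T ≫ z).left hL
    refine (nonempty_iso_iff (isInvertible_tensorMod (isInvertible_tensorMod hm hp) hq)
      (PicLoc.isInvertible_pullback _ hL)).mpr ?_
    rw [cls_tensorMod (isInvertible_tensorMod hm hp) hq, cls_tensorMod hm hp,
      ← pull_cls _ (PicLoc.isInvertible_structureModule T.left), ← pull_cls _ hL, ← pull_cls _ hL, ← pull_cls _ hL]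
    have h1 : cls (PicLoc.isInvertible_structureModule T.left) = 1 := PicGrp.cls_structureModule_eq_one
    rw [h1, map_one, _root_.one_mul]
    exact h.symm

theorem isLambdaSheaf_structureModule {L : X.left.Modules} (hL : PicF.IsInvertible L) (z : T ⟶ X)
    (h : Additive' (cls hL) z) :
    AgPol.IsLambdaSheaf ((X ◁ z) ≫ μ[X]).left (fst X T).left (snd X T ≫ z).left L
      (Coh.structureModule (X ⊗ T).left) := by
  rw [whiskerLeft_mul]
  have hp := PicLoc.isInvertible_pullback (fst X T).left hL
  have hq := PicLoc.isInvertible_pullback (snd X T ≫ z).left hL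
  refine (nonempty_iso_iff (isInvertible_tensorMod (isInvertible_tensorMod
    (PicLoc.isInvertible_structureModule _) hp) hq) (PicLoc.isInvertible_pullback _ hL)).mpr ?_
  rw [cls_tensorMod (isInvertible_tensorMod (PicLoc.isInvertible_structureModule _) hp) hq,
    cls_tensorMod (PicLoc.isInvertible_structureModule _) hp, ← pull_cls _ hL, ← pull_cls _ hL, ← pull_cls _ hL]
  have h1 : cls (PicLoc.isInvertible_structureModule (X ⊗ T).left) = 1 := PicGrp.cls_structureModule_eq_one
  rw [h1, _root_.one_mul]
  exact h.symm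

theorem translate_char {L : X.left.Modules} (hL : PicF.IsInvertible L) (z : T ⟶ X) (M : T.left.Modules)
    (h : Nonempty (CohB1.tensorMod ((Scheme.Modules.pullback (fst X T).left).obj L)
          ((Scheme.Modules.pullback (snd X T).left).obj M) ≅
        (Scheme.Modules.pullback (ThetaGrp.transl X z ≫ fst X T).left).obj L)) :
    ∃ hM : PicF.IsInvertible M, cls hM = opull z (cls hL) ∧ Additive' (cls hL) z := by
  have hp := PicLoc.isInvertible_pullback (fst X T).left hL
  have hmul := PicLoc.isInvertible_pullback (ThetaGrp.transl X z ≫ fst X T).left hL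
  have hsnd := isInvertible_of_tensorMod hp (isInvertible_of_iso hmul h.some.symm)
  have hM : PicF.IsInvertible M := by
    have h2 := PicLoc.isInvertible_pullback (lift (1 : T ⟶ X) (𝟙 T)).left hsnd
    refine isInvertible_of_iso h2 ((Scheme.Modules.pullbackComp _ _).app M ≪≫
      (Scheme.Modules.pullbackCongr (g := 𝟙 T.left) ?_).app M ≪≫ (Scheme.Modules.pullbackId _).app M)
    rw [← Over.comp_left, lift_snd]; rfl
  have e := (nonempty_iso_iff (isInvertible_tensorMod hp hsnd) hmul).mp h
  rw [cls_tensorMod hp hsnd, ← pull_cls _ hM, ← pull_cls _ hL, ← pull_cls _ hL, transl_fst'] at e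
  have e' := congrArg (opull (lift (1 : T ⟶ X) (𝟙 T))) e
  rw [map_mul, opull_section_fst, opull_section_snd, _root_.one_mul, opull_section_mul] at e'
  refine ⟨hM, e', ?_⟩
  rw [e', ← opull_comp] at e
  exact e.symm

theorem exists_translate_char {L : X.left.Modules} (hL : PicF.IsInvertible L) (z : T ⟶ X)
    (h : Additive' (cls hL) z) :
    ∃ M : T.left.Modules, PicF.IsInvertible M ∧
      Nonempty (CohB1.tensorMod ((Scheme.Modules.pullback (fst X T).left).obj L)
          ((Scheme.Modules.pullback (snd X T).left).obj M) ≅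
        (Scheme.Modules.pullback (ThetaGrp.transl X z ≫ fst X T).left).obj L) := by
  have hM := PicLoc.isInvertible_pullback z.left hL
  refine ⟨_, hM, (nonempty_iso_iff (isInvertible_tensorMod (PicLoc.isInvertible_pullback _ hL)
    (PicLoc.isInvertible_pullback _ hM)) (PicLoc.isInvertible_pullback _ hL)).mpr ?_⟩
  rw [cls_tensorMod (PicLoc.isInvertible_pullback _ hL) (PicLoc.isInvertible_pullback _ hM),
    ← pull_cls _ hM, ← pull_cls _ hL, ← pull_cls _ hL, ← pull_cls _ hL, transl_fst']
  show opull (fst X T) (cls hL) * opull (snd X T) (opull z (cls hL)) = _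
  rw [← opull_comp]
  exact h.symm

variable {l : PicLoc.PicSet X.left} {z₁ z₂ : T ⟶ X}

theorem Additive'.one : Additive' l (1 : T ⟶ X) := by
  rw [Additive', MonObj.comp_one, _root_.mul_one, opull_one, _root_.mul_one]

theorem Additive'.point (h : Additive' l z₂) (z₁ : T ⟶ X) :
    opull (z₁ * z₂) l = opull z₁ l * opull z₂ l := by
  have := congrArg (opull (lift z₁ (𝟙 T))) h
  rwa [map_mul, ← opull_comp, ← opull_comp, ← opull_comp, MonObj.comp_mul, lift_fst, lift_snd_assoc,
    Category.id_comp] at this

theorem Additive'.translate (h : Additive' l z₂) (z₁ : T ⟶ X) :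
    opull (fst X T * (snd X T ≫ z₁) * (snd X T ≫ z₂)) l =
      opull (fst X T * (snd X T ≫ z₁)) l * opull (snd X T ≫ z₂) l := by
  have := congrArg (opull (ThetaGrp.transl X z₁)) h
  rwa [map_mul, ← opull_comp, ← opull_comp, ← opull_comp, MonObj.comp_mul, transl_fst',
    ← Category.assoc, ThetaGrp.transl_snd] at this

theorem Additive'.mul (h₁ : Additive' l z₁) (h₂ : Additive' l z₂) : Additive' l (z₁ * z₂) := by
  rw [Additive', MonObj.comp_mul, ← _root_.mul_assoc, h₂.translate z₁, h₁, _root_.mul_assoc]
  congr 1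
  rw [← MonObj.comp_mul, opull_comp (snd X T) (z₁ * z₂), h₂.point z₁, map_mul, ← opull_comp, ← opull_comp]

theorem Additive'.inv (h : Additive' l z₁) : Additive' l z₁⁻¹ := by
  have h1 := h.translate z₁⁻¹
  have h2 : opull (snd X T ≫ z₁⁻¹) l = (opull (snd X T ≫ z₁) l)⁻¹ := by
    have := h.point z₁⁻¹
    rw [inv_mul_cancel, opull_one] at this
    rw [opull_comp, eq_inv_of_mul_eq_one_left this.symm, map_inv, ← opull_comp]
  rw [_root_.mul_assoc, ← MonObj.comp_mul, inv_mul_cancel, MonObj.comp_one, _root_.mul_one] at h1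
  rw [Additive', h2, eq_mul_inv_iff_mul_eq, ← h1]

theorem additive'_iff (L : X.left.Modules) (hL : PicF.IsInvertible L) {K : Over (Spec (CommRingCat.of k))}
    {i : K ⟶ X} (hK : ThetaGrp.IsKL X L i) (z : T ⟶ X) :
    (∃ y : T ⟶ K, y ≫ i = z) ↔ Additive' (cls hL) z := by
  rw [← isMumfordTriv_iff hL, hK.univ]

end Groth.Abvar.Mumford
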