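import Mathlib

/-!
# Algebras with a positive involution
-/

set_option linter.unusedSectionVars false

namespace Groth.Abvar.PosInv

open Polynomial Matrix Finset

variable {V : Type*} [AddCommGroup V] [Module ℚ V] [FiniteDimensional ℚ V]

theorem psd_real {ι : Type*} [Fintype ι] (S : ι → ι → ℚ)
    (h : ∀ a : ι → ℚ, 0 ≤ ∑ i, ∑ j, a i * S i j * a j) (a : ι → ℝ) :
    0 ≤ ∑ i, ∑ j, a i * (S i j : ℝ) * a j := by
  have hd : DenseRange (Pi.map (fun (_ : ι) (q : ℚ) => (q : ℝ))) :=
    DenseRange.piMap fun _ => Rat.denseRange_cast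
  have hc : IsClosed {a : ι → ℝ | 0 ≤ ∑ i, ∑ j, a i * (S i j : ℝ) * a j} :=
    isClosed_le continuous_const (by fun_prop)
  refine hd.induction_on a hc fun b => ?_
  simp only [Pi.map_apply]
  exact_mod_cast h b

/-- Roots of the minimal polynomial of an operator which is self-adjoint for a positive definite
symmetric form over `ℚ` are real; they are nonnegative if the operator is positive. -/
theorem root_real (B : LinearMap.BilinForm ℚ V) (hB : B.IsSymm) (hpos : ∀ a, a ≠ 0 → 0 < B a a)
    (T : Module.End ℚ V) (hT : ∀ a b, B (T a) b = B a (T b))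
    (z : ℂ) (hz : aeval z (minpoly ℚ T) = 0) :
    z.im = 0 ∧ ((∀ a, 0 ≤ B (T a) a) → 0 ≤ z.re) := by
  classical
  obtain ⟨v, hv⟩ := LinearMap.BilinForm.exists_orthogonal_basis (LinearMap.BilinForm.isSymm_iff.mp hB)
  let ι := Fin (Module.finrank ℚ V)
  set d : ι → ℚ := fun i => B (v i) (v i) with hd
  set M : Matrix ι ι ℚ := LinearMap.toMatrix v v T with hM
  have hTv : ∀ j, T (v j) = ∑ i, M i j • v i := fun j => by
    conv_lhs => rw [← v.sum_repr (T (v j))]
    simp [hM, LinearMap.toMatrix_apply]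
  have horth : ∀ i j, i ≠ j → B (v i) (v j) = 0 := fun i j hij => hv hij
  have hentry : ∀ i j, B (v i) (T (v j)) = d i * M i j := fun i j => by
    rw [hTv j, map_sum, Finset.sum_eq_single i]
    · simp [hd, mul_comm]
    · intro b _ hb; simp [horth i b (Ne.symm hb)]
    · simp
  have hsym : ∀ i j, d i * M i j = d j * M j i := fun i j => by
    rw [← hentry, ← hentry, ← hT, hB.eq]
  have hdpos : ∀ i, 0 < d i := fun i => hpos _ (v.ne_zero i)
  have hchar : (M.map (algebraMap ℚ ℂ)).charpoly.IsRoot z := by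
    rw [Matrix.charpoly_map, IsRoot.def, eval_map, ← aeval_def]
    obtain ⟨c, hc⟩ := LinearMap.minpoly_dvd_charpoly T
    rw [hM, LinearMap.charpoly_toMatrix, hc, map_mul, hz, zero_mul]
  have hdet : (Matrix.scalar ι z - M.map (algebraMap ℚ ℂ)).det = 0 := by
    rw [← Matrix.eval_charpoly]; exact hchar
  obtain ⟨w, hw0, hw⟩ := Matrix.exists_mulVec_eq_zero_iff.mpr hdet
  have heig : ∀ i, z * w i = ∑ j, (M i j : ℂ) * w j := fun i => by
    have := congrFun hw i
    rw [Matrix.sub_mulVec, Pi.sub_apply, Pi.zero_apply, sub_eq_zero] at this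
    rw [show Matrix.scalar ι z = Matrix.diagonal fun _ => z from rfl, Matrix.mulVec_diagonal] at this
    simpa [Matrix.mulVec, dotProduct] using this
  set q : ℝ := ∑ i, (d i : ℝ) * Complex.normSq (w i) with hq
  have hqpos : 0 < q := by
    obtain ⟨i, hi⟩ := Function.ne_iff.mp hw0
    refine Finset.sum_pos' (fun j _ => mul_nonneg (by exact_mod_cast (hdpos j).le)
      (Complex.normSq_nonneg _)) ⟨i, Finset.mem_univ _, ?_⟩
    exact mul_pos (by exact_mod_cast hdpos i) (Complex.normSq_pos.mpr hi)
  set X : ℂ := ∑ i, ∑ j, starRingEnd ℂ (w i) * (((d i * M i j : ℚ)) : ℂ) * w j with hX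
  have hzq : z * (q : ℂ) = X := by
    rw [hq, hX]; push_cast
    rw [Finset.mul_sum]
    refine Finset.sum_congr rfl fun i _ => ?_
    rw [Complex.normSq_eq_conj_mul_self,
      show z * ((d i : ℂ) * (starRingEnd ℂ (w i) * w i))
        = (d i : ℂ) * starRingEnd ℂ (w i) * (z * w i) by ring, heig, Finset.mul_sum]
    exact Finset.sum_congr rfl fun j _ => by ring
  have hXreal : starRingEnd ℂ X = X := by
    rw [hX, map_sum, Finset.sum_comm]
    simp only [map_sum, map_mul, Complex.conj_conj, map_ratCast]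
    refine Finset.sum_congr rfl fun i _ => Finset.sum_congr rfl fun j _ => ?_
    rw [hsym i j]; ring
  have him : z.im = 0 := by
    have h1 := congrArg Complex.im hzq
    have h2 : X.im = 0 := Complex.conj_eq_iff_im.mp hXreal
    rw [h2, Complex.mul_im, Complex.ofReal_re, Complex.ofReal_im, mul_zero, zero_add] at h1
    exact (mul_eq_zero.mp h1).resolve_right hqpos.ne'
  refine ⟨him, fun hnn => ?_⟩
  have hS : ∀ a : ι → ℚ, 0 ≤ ∑ i, ∑ j, a i * (d i * M i j) * a j := fun a => by
    have := hnn (∑ i, a i • v i)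
    rw [hT] at this
    convert this using 1
    simp only [map_sum, map_smul, LinearMap.coe_sum, Finset.sum_apply, LinearMap.smul_apply,
      smul_eq_mul, hentry]
    rw [Finset.sum_comm]
    refine Finset.sum_congr rfl fun i _ => ?_
    first
      | (rw [Finset.mul_sum]; exact Finset.sum_congr rfl fun j _ => by ring)
      | exact Finset.sum_congr rfl fun j _ => by ring
  have hXre : 0 ≤ X.re := by
    have h1 := psd_real (fun i j => d i * M i j) hS (fun i => (w i).re)
    have h2 := psd_real (fun i j => d i * M i j) hS (fun i => (w i).im)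
    have hXe : X.re = (∑ i, ∑ j, (w i).re * ((d i * M i j : ℚ) : ℝ) * (w j).re) +
        ∑ i, ∑ j, (w i).im * ((d i * M i j : ℚ) : ℝ) * (w j).im := by
      simp only [hX, Complex.re_sum, ← Finset.sum_add_distrib]
      refine Finset.sum_congr rfl fun i _ => Finset.sum_congr rfl fun j _ => ?_
      simp
    rw [hXe]; exact add_nonneg h1 h2
  have h1 := congrArg Complex.re hzq
  rw [Complex.mul_re, Complex.ofReal_re, Complex.ofReal_im, mul_zero, sub_zero] at h1
  exact nonneg_of_mul_nonneg_left (h1 ▸ hXre) hqpos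

/-- A polynomial with all complex roots real and nonnegative, substituted at `-X` and sign
normalised, has nonnegative coefficients. -/
theorem coeff_nonneg (μ : ℚ[X]) (hμ : μ.Monic)
    (hr : ∀ z : ℂ, aeval z μ = 0 → z.im = 0 ∧ 0 ≤ z.re) (n : ℕ) :
    0 ≤ (C ((-1 : ℚ) ^ μ.natDegree) * μ.comp (-X)).coeff n := by
  set μc := μ.map (algebraMap ℚ ℂ) with hμc
  have hs : μc.Splits := IsAlgClosed.splits _
  have hprod := hs.eq_prod_roots_of_monic (hμ.map _)
  have hcard : μc.roots.card = μ.natDegree := by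
    rw [← hs.natDegree_eq_card_roots, hμc, natDegree_map]
  have hmem : ∀ z ∈ μc.roots, z.im = 0 ∧ 0 ≤ z.re := fun z hzr => hr z (by
    have := (mem_roots'.mp hzr).2
    rwa [IsRoot.def, eval_map, ← aeval_def] at this)
  have key : ∀ s : Multiset ℂ, (∀ z ∈ s, z.im = 0 ∧ 0 ≤ z.re) →
      ∃ P : ℝ[X], (∀ n, 0 ≤ P.coeff n) ∧
        P.map (algebraMap ℝ ℂ) = C ((-1 : ℂ) ^ s.card) * ((s.map fun a => X - C a).prod.comp (-X)) := by
    intro s
    induction s using Multiset.induction_on with
    | empty => intro; exact ⟨1, fun n => by rw [coeff_one]; split <;> norm_num, by simp⟩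
    | cons a s ih =>
      intro ha
      obtain ⟨P, hP, hPe⟩ := ih fun z hz => ha z (Multiset.mem_cons_of_mem hz)
      obtain ⟨hai, har⟩ := ha a (Multiset.mem_cons_self _ _)
      refine ⟨(X + C a.re) * P, fun n => ?_, ?_⟩
      · rw [add_mul, coeff_add, coeff_C_mul]
        refine add_nonneg ?_ (mul_nonneg har (hP n))
        cases n with
        | zero => simp
        | succ n => rw [coeff_X_mul]; exact hP n
      · have hae : (algebraMap ℝ ℂ) a.re = a := by
          apply Complex.ext <;> simp [hai]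
        simp only [Polynomial.map_mul, Polynomial.map_add, map_X, map_C, hPe, hae, Multiset.card_cons,
          Multiset.map_cons, Multiset.prod_cons, mul_comp, sub_comp, X_comp, C_comp, pow_succ, map_mul,
          map_neg, map_one]
        ring
  obtain ⟨P, hP, hPe⟩ := key _ hmem
  rw [← hprod, hcard] at hPe
  have : ((C ((-1 : ℚ) ^ μ.natDegree) * μ.comp (-X)).map (algebraMap ℚ ℝ)).map (algebraMap ℝ ℂ)
      = P.map (algebraMap ℝ ℂ) := by
    rw [hPe, Polynomial.map_map, ← IsScalarTower.algebraMap_eq, Polynomial.map_mul, map_C,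
      Polynomial.map_comp, Polynomial.map_neg, map_X, map_pow, map_neg, map_one]
  have h2 := map_injective _ (algebraMap ℝ ℂ).injective this
  have := hP n
  rw [← h2, coeff_map] at this
  rw [eq_ratCast] at this
  exact_mod_cast this

theorem isSumSq_algebraMap {A : Type*} [CommRing A] [Algebra ℚ A] {q : ℚ} (hq : 0 ≤ q) :
    IsSumSq (algebraMap ℚ A q) := by
  have h1 : IsSumSq (((q.num.toNat * q.den : ℕ)) : A) := IsSumSq.natCast _
  have h2 : algebraMap ℚ A q = (((q.num.toNat * q.den : ℕ)) : A)
      * (algebraMap ℚ A (q.den : ℚ)⁻¹ * algebraMap ℚ A (q.den : ℚ)⁻¹) := by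
    rw [← map_natCast (algebraMap ℚ A), ← map_mul, ← map_mul]
    congr 1
    have hn : ((q.num.toNat : ℕ) : ℚ) = (q.num : ℚ) := by
      rw [← Int.cast_natCast, Int.toNat_of_nonneg (Rat.num_nonneg.mpr hq)]
    have hd : (q.den : ℚ) ≠ 0 := by exact_mod_cast q.den_nz
    push_cast
    rw [hn]
    have := (Rat.num_div_den q).symm
    field_simp at this ⊢
    linarith
  rw [h2]; exact h1.mul (IsSumSq.mul_self _)

theorem aeval_sq_isSumSq {A : Type*} [CommRing A] [Algebra ℚ A] (E : ℚ[X])
    (hE : ∀ n, 0 ≤ E.coeff n) (x : A) : IsSumSq (aeval (x * x) E) := by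
  rw [aeval_eq_sum_range]
  refine IsSumSq.sum fun i _ => ?_
  rw [Algebra.smul_def, mul_pow]
  exact (isSumSq_algebraMap (hE i)).mul (IsSumSq.mul_self _)

/-- If `x` is a root of a squarefree monic polynomial all of whose complex roots are real and
nonnegative, then `x` is a sum of squares. -/
theorem isSumSq_of_roots_nonneg {A : Type*} [CommRing A] [Algebra ℚ A] (x : A) (μ : ℚ[X])
    (hμ : μ.Monic) (hsq : Squarefree μ) (hx : aeval x μ = 0)
    (hr : ∀ z : ℂ, aeval z μ = 0 → z.im = 0 ∧ 0 ≤ z.re) : IsSumSq x := by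
  set P := C ((-1 : ℚ) ^ μ.natDegree) * μ.comp (-X) with hPdef
  have hP : ∀ n, 0 ≤ P.coeff n := coeff_nonneg μ hμ hr
  set E := contract 2 P with hE
  set O := contract 2 P.divX with hO
  have hPe : P = expand ℚ 2 E + X * expand ℚ 2 O := by
    ext n
    rw [coeff_add, coeff_expand two_pos, hE, coeff_contract two_ne_zero]
    cases n with
    | zero => simp
    | succ m =>
      rw [coeff_X_mul, coeff_expand two_pos, hO, coeff_contract two_ne_zero, coeff_divX]
      rcases Nat.even_or_odd m with ⟨j, hj⟩ | ⟨j, hj⟩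
      · rw [if_neg (by omega), if_pos (by omega), zero_add]
        congr 1; omega
      · rw [if_pos (by omega), if_neg (by omega), add_zero]
        congr 1; omega
  have hPxC : ∀ y : ℂ, aeval y μ = 0 → aeval (y * y) E = y * aeval (y * y) O := by
    intro y hy
    have h0 : aeval (-y) P = 0 := by
      rw [hPdef, map_mul, aeval_comp, map_neg, aeval_X, neg_neg, hy, mul_zero]
    rw [hPe, map_add, map_mul, expand_aeval, expand_aeval, aeval_X, neg_sq, sq, neg_mul] at h0
    linear_combination h0
  have hPxA : ∀ y : A, aeval y μ = 0 → aeval (y * y) E = y * aeval (y * y) O := by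
    intro y hy
    have h0 : aeval (-y) P = 0 := by
      rw [hPdef, map_mul, aeval_comp, map_neg, aeval_X, neg_neg, hy, mul_zero]
    rw [hPe, map_add, map_mul, expand_aeval, expand_aeval, aeval_X, neg_sq, sq, neg_mul] at h0
    linear_combination h0
  have hOnn : ∀ n, 0 ≤ O.coeff n := fun n => by
    rw [hO, coeff_contract two_ne_zero, coeff_divX]; exact hP _
  have hEnn : ∀ n, 0 ≤ E.coeff n := fun n => by
    rw [hE, coeff_contract two_ne_zero]; exact hP _
  have hcop : IsCoprime (expand ℚ 2 O) μ := by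
    rw [Polynomial.isCoprime_iff_aeval_ne_zero_of_isAlgClosed ℚ ℂ]
    intro z
    by_contra hcon
    push Not at hcon
    obtain ⟨hzO, hzμ⟩ := hcon
    rw [expand_aeval] at hzO
    obtain ⟨him, hre⟩ := hr z hzμ
    have hzr : z = ((z.re : ℝ) : ℂ) := by apply Complex.ext <;> simp [him]
    have hEz : aeval (z * z) E = 0 := by rw [hPxC z hzμ, ← sq, hzO, mul_zero]
    rcases hre.lt_or_eq with hpos | h0
    · -- a positive root kills both `E` and `O`, hence all coefficients
      have hall : ∀ Q : ℚ[X], (∀ n, 0 ≤ Q.coeff n) → aeval (z * z) Q = 0 → Q = 0 := by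
        intro Q hQ hQz
        rw [hzr, ← Complex.ofReal_mul] at hQz
        have hQr : aeval (z.re * z.re) Q = (0 : ℝ) := by
          have := aeval_algebraMap_apply ℂ (z.re * z.re) Q
          rw [Complex.coe_algebraMap] at this
          rw [this] at hQz
          exact_mod_cast hQz
        ext n
        by_contra hn
        rw [coeff_zero] at hn
        rw [aeval_eq_sum_range] at hQr
        refine (Finset.sum_pos' (fun i _ => smul_nonneg (hQ i) (pow_nonneg (mul_self_nonneg _) i))
          ⟨n, Finset.mem_range_succ_iff.mpr (le_natDegree_of_ne_zero hn), ?_⟩).ne' hQr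
        exact smul_pos (lt_of_le_of_ne (hQ n) (Ne.symm hn)) (pow_pos (mul_pos hpos hpos) n)
      have hP0 : P = 0 := by
        rw [hPe, hall E hEnn hEz, hall O hOnn (by rwa [← sq])]; simp
      have := congrArg (fun p => p.comp (-X)) hP0
      simp [hPdef, comp_assoc] at this
      exact hμ.ne_zero this
    · -- a zero root is simple
      have hz0 : z = 0 := by rw [hzr, ← h0]; simp
      subst hz0
      have hO0 : O.coeff 0 = 0 := by
        rw [zero_pow two_ne_zero, ← coeff_zero_eq_aeval_zero', map_eq_zero] at hzO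
        exact hzO
      rw [hO, coeff_contract two_ne_zero, coeff_divX, zero_mul, zero_add] at hO0
      rw [← coeff_zero_eq_aeval_zero', map_eq_zero] at hzμ
      have hμ1 : μ.coeff 1 = 0 := by
        rw [hPdef, coeff_C_mul, mul_eq_zero] at hO0
        have := hO0.resolve_left (pow_ne_zero _ (by norm_num))
        obtain ⟨g, hg⟩ := X_dvd_iff.mpr hzμ
        rw [hg, mul_comp, X_comp, neg_mul, coeff_neg, neg_eq_zero, coeff_X_mul,
          coeff_zero_eq_eval_zero, eval_comp] at this
        simp at this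
        rw [hg, coeff_X_mul, coeff_zero_eq_eval_zero, this]
      have h2 : X * X ∣ μ := by
        rw [← sq, X_pow_dvd_iff]
        intro m hm
        interval_cases m <;> assumption
      exact not_isUnit_X (hsq X h2)
  obtain ⟨a, b, hab⟩ := hcop
  have hu : aeval x a * aeval (x * x) O = 1 := by
    have := congrArg (aeval x) hab
    simpa [hx, expand_aeval, sq] using this
  have hx2 : x = (aeval (x * x) E * aeval (x * x) O) * (aeval x a * aeval x a) := by
    rw [hPxA x hx]
    linear_combination (-(x * (aeval x a * aeval (x * x) O + 1))) * hu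
  rw [hx2]
  exact ((aeval_sq_isSumSq E hEnn x).mul (aeval_sq_isSumSq O hOnn x)).mul (IsSumSq.mul_self _)

section Inv

variable {R : Type*} [Ring R] [Algebra ℚ R] [StarRing R] [StarModule ℚ R]
  (σ : R →ₗ[ℚ] ℚ)

/-- The symmetrised form `(a, b) ↦ σ (a b*) + σ (b a*)`. -/
def form : LinearMap.BilinForm ℚ R :=
  LinearMap.mk₂ ℚ (fun a b => σ (a * star b) + σ (b * star a))
    (fun a a' b => by simp [add_mul, mul_add]; ring)
    (fun c a b => by simp [star_smul, smul_add]; ring)
    (fun a b b' => by simp [add_mul, mul_add]; ring)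
    (fun c a b => by simp [star_smul, smul_add]; ring)

theorem form_apply (a b : R) : form σ a b = σ (a * star b) + σ (b * star a) := rfl

theorem form_isSymm : (form σ).IsSymm := ⟨fun a b => by simp [form_apply, add_comm]⟩

theorem form_pos (hpos : ∀ x : R, x ≠ 0 → 0 < σ (x * star x)) (a : R) (ha : a ≠ 0) :
    0 < form σ a a := by
  have := hpos a ha; rw [form_apply]; linarith

theorem mul_star_nonneg (hpos : ∀ x : R, x ≠ 0 → 0 < σ (x * star x)) (a : R) :
    0 ≤ σ (a * star a) := by
  by_cases h : a = 0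
  · simp [h]
  · exact (hpos a h).le

theorem eq_zero_of_mul_star_eq_zero (hpos : ∀ x : R, x ≠ 0 → 0 < σ (x * star x)) {a : R}
    (h : σ (a * star a) = 0) : a = 0 := by
  by_contra h'
  exact (hpos a h').ne' h

theorem eq_zero_of_isNilpotent_selfAdjoint (hpos : ∀ x : R, x ≠ 0 → 0 < σ (x * star x)) {y : R}
    (hy : star y = y) (hn : IsNilpotent y) : y = 0 := by
  obtain ⟨n, hn⟩ := hn
  have key : ∀ k, y ^ (2 ^ k) = 0 → y = 0 := by
    intro k
    induction k with
    | zero => simp
    | succ k ih =>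
      intro h
      refine ih (eq_zero_of_mul_star_eq_zero σ hpos ?_)
      rw [star_pow, hy, ← pow_add, ← two_mul, ← pow_succ', h, map_zero]
  exact key n (pow_eq_zero_of_le Nat.lt_two_pow_self.le hn)

theorem star_eq_self_of_mem_adjoin {x y : R} (hx : star x = x)
    (hy : y ∈ Algebra.adjoin ℚ ({x} : Set R)) : star y = y ∧ Commute x y := by
  rw [Algebra.adjoin_singleton_eq_range_aeval] at hy
  obtain ⟨p, rfl⟩ := hy
  refine ⟨?_, ?_⟩
  · show star (aeval x p) = aeval x p
    rw [aeval_eq_sum_range, star_sum]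
    exact Finset.sum_congr rfl fun i _ => by rw [star_smul, star_pow, hx, star_trivial]
  · have := (Commute.all (X : ℚ[X]) p).map (aeval x)
    simpa using this

theorem squarefree_minpoly [Module.Finite ℚ R] (hpos : ∀ x : R, x ≠ 0 → 0 < σ (x * star x))
    {x : R} (hx : star x = x) (hx0 : x ≠ 0) : Squarefree (minpoly ℚ x) := by
  haveI : Nontrivial R := nontrivial_of_ne x 0 hx0
  have hμ0 := minpoly.ne_zero (Algebra.IsIntegral.isIntegral (R := ℚ) x)
  intro a ha
  obtain ⟨c, hc⟩ := ha
  have hy : aeval x (a * c) = 0 := by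
    refine eq_zero_of_isNilpotent_selfAdjoint σ hpos
      (star_eq_self_of_mem_adjoin hx (aeval_mem_adjoin_singleton ℚ x)).1 ⟨2, ?_⟩
    rw [← map_pow, show (a * c) ^ 2 = a * a * c * c by ring, ← hc, map_mul, minpoly.aeval,
      zero_mul]
  have hdvd := minpoly.dvd ℚ x hy
  have hac : a * c ≠ 0 := by
    intro h
    apply hμ0
    rw [hc, mul_assoc, h, mul_zero]
  have hdeg := natDegree_le_of_dvd hdvd hac
  have hmul : (minpoly ℚ x).natDegree = a.natDegree + (a * c).natDegree := by
    rw [hc, mul_assoc, natDegree_mul (left_ne_zero_of_mul hac) hac]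
  rw [isUnit_iff_degree_eq_zero, degree_eq_natDegree (left_ne_zero_of_mul hac)]
  simp; omega

theorem minpoly_roots [Module.Finite ℚ R] (hσ : ∀ x y : R, σ (x * y) = σ (y * x))
    (hpos : ∀ x : R, x ≠ 0 → 0 < σ (x * star x))
    {x : R} (hx : star x = x) (z : ℂ) (hz : aeval z (minpoly ℚ x) = 0) :
    z.im = 0 ∧ ((∀ y ∈ Algebra.adjoin ℚ ({x} : Set R), 0 ≤ σ (y * x * y)) → 0 ≤ z.re) := by
  set S := Algebra.adjoin ℚ ({x} : Set R) with hS
  let x' : S := ⟨x, Algebra.self_mem_adjoin_singleton ℚ x⟩
  let B : LinearMap.BilinForm ℚ S := (form σ).compl₁₂ S.val.toLinearMap S.val.toLinearMap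
  have hB : ∀ a b : S, B a b = σ ((a : R) * b) + σ ((b : R) * a) := fun a b => by
    show σ ((a : R) * star (b : R)) + σ ((b : R) * star (a : R)) = _
    rw [(star_eq_self_of_mem_adjoin hx b.2).1, (star_eq_self_of_mem_adjoin hx a.2).1]
  have hT : minpoly ℚ (Algebra.lmul ℚ S x') = minpoly ℚ x := by
    rw [minpoly.algHom_eq _ Algebra.lmul_injective]
    exact (minpoly.algHom_eq S.val Subtype.val_injective x').symm
  obtain ⟨h1, h2⟩ := root_real B ⟨fun a b => by simp [hB, add_comm]⟩ (fun a ha => by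
      have := form_pos σ hpos (a : R) (fun h => ha (Subtype.ext h))
      exact this)
    (Algebra.lmul ℚ S x') (fun a b => by
      show B (x' * a) b = B a (x' * b)
      rw [hB, hB]
      push_cast
      have e1 : (x : R) * a * b = a * (x * b) := by
        rw [(star_eq_self_of_mem_adjoin hx a.2).2.eq, mul_assoc]
      have e2 : σ ((b : R) * (x * a)) = σ ((x : R) * b * a) := by
        rw [← mul_assoc, (star_eq_self_of_mem_adjoin hx b.2).2.eq]
      rw [show ((x' : S) : R) = x from rfl, e1, e2]) z (hT ▸ hz)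
  refine ⟨h1, fun hnn => h2 fun a => ?_⟩
  show 0 ≤ B (x' * a) a
  rw [hB]
  push_cast
  have h := hnn a a.2
  have e1 : σ ((x' : R) * a * a) = σ ((a : R) * x * a) := by
    rw [show ((x' : S) : R) = x from rfl, (star_eq_self_of_mem_adjoin hx a.2).2.eq]
  have e2 : σ ((a : R) * ((x' : R) * a)) = σ ((a : R) * x * a) := by
    rw [show ((x' : S) : R) = x from rfl, mul_assoc]
  rw [e1, e2]; linarith

theorem isSemisimpleRing [Module.Finite ℚ R] (hpos : ∀ x : R, x ≠ 0 → 0 < σ (x * star x)) :
    IsSemisimpleRing R := by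
  haveI : IsArtinianRing R := IsArtinianRing.of_finite ℚ R
  rw [IsArtinianRing.isSemisimpleRing_iff_jacobson, eq_bot_iff]
  intro x hx
  obtain ⟨n, hn⟩ := IsSemiprimaryRing.isNilpotent (R := R)
  rw [Ideal.mem_bot]
  apply eq_zero_of_mul_star_eq_zero σ hpos
  suffices x * star x = 0 by rw [this, map_zero]
  refine eq_zero_of_isNilpotent_selfAdjoint σ hpos (by simp) ⟨n, ?_⟩
  have hmem : x * star x ∈ Ring.jacobson R := Ideal.mul_mem_right _ _ hx
  have := Ideal.pow_mem_pow hmem n
  rw [hn] at this
  exact this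

theorem exists_sq_sum [Module.Finite ℚ R] (hσ : ∀ x y : R, σ (x * y) = σ (y * x))
    (hpos : ∀ x : R, x ≠ 0 → 0 < σ (x * star x)) {x : R} (hx : star x = x) (hx0 : x ≠ 0)
    (hnn : ∀ y ∈ Algebra.adjoin ℚ ({x} : Set R), 0 ≤ σ (y * x * y)) :
    ∃ (n : ℕ) (y : Fin n → R), (∀ i, y i ∈ Algebra.adjoin ℚ ({x} : Set R)) ∧ x = ∑ i, y i ^ 2 := by
  set S := Algebra.adjoin ℚ ({x} : Set R) with hS
  letI : CommRing S := Algebra.adjoinCommRingOfComm ℚ (by rintro a rfl b rfl; rfl)
  have h : IsSumSq (⟨x, Algebra.self_mem_adjoin_singleton ℚ x⟩ : S) := by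
    refine isSumSq_of_roots_nonneg _ (minpoly ℚ x) (minpoly.monic (Algebra.IsIntegral.isIntegral x))
      (squarefree_minpoly σ hpos hx hx0) ?_
      (fun z hz => ⟨(minpoly_roots σ hσ hpos hx z hz).1, (minpoly_roots σ hσ hpos hx z hz).2 hnn⟩)
    refine Subtype.val_injective ?_
    refine Eq.trans ?_ (minpoly.aeval ℚ x)
    exact (Polynomial.aeval_algHom_apply S.val (⟨x, Algebra.self_mem_adjoin_singleton ℚ x⟩ : S) (minpoly ℚ x)).symm
  have key : ∀ w : S, IsSumSq w → ∃ (n : ℕ) (y : Fin n → R),
      (∀ i, y i ∈ S) ∧ (w : R) = ∑ i, y i ^ 2 := by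
    intro w hw
    induction hw with
    | zero => exact ⟨0, Fin.elim0, fun i => i.elim0, by simp⟩
    | sq_add a _ ih =>
      obtain ⟨n, y, hy, he⟩ := ih
      refine ⟨n + 1, Fin.cons (a : R) y, fun i => Fin.cases a.2 hy i, ?_⟩
      rw [Fin.sum_univ_succ, Subalgebra.coe_add, he, Subalgebra.coe_mul]
      simp [sq]
  exact key _ h

theorem conj_pos (hpos : ∀ x : R, x ≠ 0 → 0 < σ (x * star x)) {x : R} (hx : star x = x)
    {n : ℕ} (y : Fin n → R) (hy : ∀ i, y i ∈ Algebra.adjoin ℚ ({x} : Set R))
    (hxs : x = ∑ i, y i ^ 2) (β : R) (hβ : star β * x ≠ 0) : 0 < σ (star β * x * β) := by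
  have e : star β * x * β = ∑ i, (star β * y i) * star (star β * y i) := by
    conv_lhs => rw [hxs, Finset.mul_sum, Finset.sum_mul]
    refine Finset.sum_congr rfl fun i _ => ?_
    rw [star_mul, star_star, (star_eq_self_of_mem_adjoin hx (hy i)).1]
    simp [sq, mul_assoc]
  rw [e, map_sum]
  refine Finset.sum_pos' (fun i _ => mul_star_nonneg σ hpos _) ?_
  by_contra hcon
  push Not at hcon
  apply hβ
  rw [hxs, Finset.mul_sum]
  refine Finset.sum_eq_zero fun i hi => ?_
  have := eq_zero_of_mul_star_eq_zero σ hpos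
    (le_antisymm (hcon i hi) (mul_star_nonneg σ hpos _))
  rw [sq, ← mul_assoc, this, zero_mul]

theorem star_eq_conj [Module.Finite ℚ R] (hpos : ∀ x : R, x ≠ 0 → 0 < σ (x * star x))
    (α : R) (q : ℚ) (hα : α * star α = algebraMap ℚ R q) :
    ∃ hmem : star α ∈ Algebra.adjoin ℚ ({α} : Set R),
      ∀ ρ : Algebra.adjoin ℚ ({α} : Set R) →ₐ[ℚ] ℂ,
        ρ ⟨star α, hmem⟩ = starRingEnd ℂ (ρ ⟨α, Algebra.self_mem_adjoin_singleton ℚ α⟩) ∧
          ‖ρ ⟨α, Algebra.self_mem_adjoin_singleton ℚ α⟩‖ ^ 2 = (q : ℝ) := by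
  set S := Algebra.adjoin ℚ ({α} : Set R) with hS
  by_cases hα0 : α = 0
  · have hmem : star α ∈ S := by rw [hα0, star_zero]; exact zero_mem _
    refine ⟨hmem, fun ρ => ?_⟩
    have h1 : (⟨α, Algebra.self_mem_adjoin_singleton ℚ α⟩ : S) = 0 := Subtype.ext hα0
    have h2 : (⟨star α, hmem⟩ : S) = 0 := Subtype.ext (show star α = 0 by rw [hα0, star_zero])
    have hq : q = 0 ∨ Subsingleton R := by
      by_cases hR : Subsingleton R
      · exact .inr hR
      · haveI : Nontrivial R := not_subsingleton_iff_nontrivial.mp hR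
        refine .inl ?_
        rw [hα0, zero_mul] at hα
        exact (map_eq_zero (algebraMap ℚ R)).mp hα.symm
    rcases hq with hq | hq
    · rw [h1, h2, map_zero, hq]; simp
    · have : (1 : S) = 0 := Subtype.ext (Subsingleton.elim _ _)
      have := congrArg ρ this
      simp at this
  haveI : Nontrivial R := nontrivial_of_ne α 0 hα0
  have hq : 0 < q := by
    have h1 := hpos α hα0
    rw [hα, Algebra.algebraMap_eq_smul_one, map_smul, smul_eq_mul] at h1
    have h2 := hpos 1 one_ne_zero
    rw [star_one, mul_one] at h2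
    exact pos_of_mul_pos_left h1 h2.le
  have hfac : star α * α = algebraMap ℚ R q := by
    haveI : IsArtinianRing R := IsArtinianRing.of_finite ℚ R
    have h : α * ((algebraMap ℚ R q⁻¹) * star α) = 1 := by
      rw [← mul_assoc, ← Algebra.commutes, mul_assoc, hα, ← map_mul, inv_mul_cancel₀ hq.ne', map_one]
    have h' := mul_eq_one_comm.mp h
    rw [mul_assoc] at h'
    have := congrArg (algebraMap ℚ R q * ·) h'
    simpa [← mul_assoc, ← map_mul, hq.ne'] using this
  have hmem : star α ∈ S := by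
    have hint := Algebra.IsIntegral.isIntegral (R := ℚ) (⟨α, Algebra.self_mem_adjoin_singleton ℚ α⟩ : S)
    have hinj : Function.Injective (LinearMap.mulLeft ℚ (⟨α, Algebra.self_mem_adjoin_singleton ℚ α⟩ : S)) := by
      rw [← LinearMap.ker_eq_bot, LinearMap.ker_eq_bot']
      intro b hb
      have hb' : α * (b : R) = 0 := congrArg Subtype.val hb
      apply Subtype.ext
      have := congrArg (star α * ·) hb'
      simp only [← mul_assoc, hfac, mul_zero, ← Algebra.smul_def, smul_eq_zero] at this
      exact this.resolve_left hq.ne'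
    obtain ⟨b, hb⟩ := LinearMap.injective_iff_surjective.mp hinj (algebraMap ℚ S q)
    have hb' : α * (b : R) = algebraMap ℚ R q := congrArg Subtype.val hb
    have := congrArg (star α * ·) hb'
    simp only [← mul_assoc, hfac] at this
    rw [← Algebra.commutes q (star α), ← Algebra.smul_def, ← Algebra.smul_def] at this
    exact (smul_right_injective R hq.ne' this) ▸ b.2
  refine ⟨hmem, fun ρ => ?_⟩
  letI : CommRing S := Algebra.adjoinCommRingOfComm ℚ (by rintro a rfl b rfl; rfl)
  set a : S := ⟨α, Algebra.self_mem_adjoin_singleton ℚ α⟩ with ha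
  set a' : S := ⟨star α, hmem⟩ with ha'
  have hstar : ∀ w : S, star (w : R) ∈ S := by
    rintro ⟨w, hw⟩
    induction hw using Algebra.adjoin_induction with
    | mem y hy => rw [Set.mem_singleton_iff] at hy; simpa [hy] using hmem
    | algebraMap r => simp only [Algebra.algebraMap_eq_smul_one, star_smul, star_one, star_trivial]
                      exact S.smul_mem (one_mem S) r
    | add y z _ _ h1 h2 => simpa using add_mem h1 h2
    | mul y z _ _ h1 h2 => simpa using mul_mem h2 h1
  let st : S → S := fun w => ⟨star (w : R), hstar w⟩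
  let B : LinearMap.BilinForm ℚ S := (form σ).compl₁₂ S.val.toLinearMap S.val.toLinearMap
  have hB : ∀ b c : S, B b c = σ ((b * st c : S) : R) + σ ((c * st b : S) : R) := fun b c => rfl
  have hst : ∀ b c : S, st (b * c) = st b * st c := fun b c => by
    rw [mul_comm (st b)]; exact Subtype.ext (star_mul _ _)
  have hBs : B.IsSymm := ⟨fun b c => by simp [hB, add_comm]⟩
  have hBp : ∀ b : S, b ≠ 0 → 0 < B b b := fun b hb =>
    form_pos σ hpos (b : R) fun h => hb (Subtype.ext h)
  have root : ∀ s : S, st s = s → (ρ s).im = 0 ∧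
      ((∀ b, 0 ≤ B (s * b) b) → 0 ≤ (ρ s).re) := by
    intro s hs
    refine root_real B hBs hBp (Algebra.lmul ℚ S s) (fun b c => ?_) _ ?_
    · show B (s * b) c = B b (s * c)
      simp only [hB, hst, hs]
      congr 1 <;> · congr 2; ring
    · rw [minpoly.algHom_eq _ Algebra.lmul_injective, Polynomial.aeval_algHom_apply, minpoly.aeval,
        map_zero]
  have hst1 : st a = a' := rfl
  have hst2 : st a' = a := Subtype.ext (star_star α)
  have h1 := (root (a + a') (Subtype.ext (by simp [a, a', st, add_comm]))).1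
  have hneg : st (-((a - a') * (a - a'))) = -((a - a') * (a - a')) := by
    apply Subtype.ext
    simp only [st, a, a', Subalgebra.coe_neg, Subalgebra.coe_mul, Subalgebra.coe_sub, star_neg,
      star_mul, star_sub, star_star, neg_inj]
    rw [← neg_sub α (star α), neg_mul_neg]
  obtain ⟨h2, h3⟩ := root _ hneg
  have h3' := h3 fun b => by
    have hd : st ((a - a') * b) = -(a - a') * st b := by
      rw [hst]; congr 1
      exact Subtype.ext (by simp [a, a', st])
    have := hBs
    have hnn : 0 ≤ B ((a - a') * b) ((a - a') * b) := by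
      by_cases hc : (a - a') * b = 0
      · simp [hc]
      · exact (hBp _ hc).le
    refine hnn.trans_eq ?_
    simp only [hB, hd, hst, hneg]
    congr 1 <;> · congr 2; ring
  have hmul : ρ a * ρ a' = (q : ℂ) := by
    rw [← map_mul, show a * a' = algebraMap ℚ S q from Subtype.ext hα, AlgHom.commutes, eq_ratCast]
  simp only [map_add, map_neg, map_mul, map_sub] at h1 h2 h3'
  obtain ⟨h4, h5⟩ := Complex.ext_iff.mp hmul
  simp [Complex.mul_re, Complex.mul_im] at h1 h2 h3' h4 h5
  have hconj : ρ a' = starRingEnd ℂ (ρ a) := by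
    have hi : (ρ a').im = -(ρ a).im := by linarith
    rw [hi] at h2 h3' h5
    have hre : (ρ a').re = (ρ a).re := by
      have ha2 : ((ρ a).re - (ρ a').re) * (ρ a).im = 0 := by nlinarith [h5]
      rcases mul_eq_zero.mp ha2 with h | h
      · linarith
      · rw [h] at h3'
        nlinarith [h3', sq_nonneg ((ρ a).re - (ρ a').re)]
    apply Complex.ext <;> simp [hre, hi]
  refine ⟨hconj, ?_⟩
  rw [hconj, Complex.mul_conj] at hmul
  rw [Complex.sq_norm]
  exact_mod_cast hmul

end Inv

end Groth.Abvar.PosInv
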