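import Groth.Agent.Abvar.Rigidity
import Groth.Agent.AlgGrp1.Antiaffine

/-!
# Rigidity with a geometric base point
-/

universe u

open CategoryTheory Limits MonoidalCategory CartesianMonoidalCategory AlgebraicGeometry

namespace Groth.Abvar

variable {k : Type u} [Field k]

set_option backward.isDefEq.respectTransparency false in
set_option backward.defeqAttrib.useBackward true in
theorem rigidity_geometricPoint (X Y Z : Over (Spec (CommRingCat.of k)))
    [IsProper X.hom] [GeometricallyIntegral X.hom]
    [LocallyOfFiniteType Y.hom] [GeometricallyIntegral Y.hom]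
    [IsSeparated Z.hom] (f : X ⊗ Y ⟶ Z)
    (K : Type u) [Field K] [Algebra k K] [IsAlgClosed K]
    (y₀ : (Over.mk (Spec.map (CommRingCat.ofHom (algebraMap k K))) : Over (Spec (CommRingCat.of k))) ⟶ Y)
    (z₀ : (Over.mk (Spec.map (CommRingCat.ofHom (algebraMap k K))) : Over (Spec (CommRingCat.of k))) ⟶ Z)
    (h : (X ◁ y₀) ≫ f = snd X _ ≫ z₀) :
    ∃! g : Y ⟶ Z, f = snd X Y ≫ g := by
  let b := Spec.map (CommRingCat.ofHom (algebraMap k K))
  let F := Over.pullback b
  have : LocallyOfFiniteType (X ⊗ Y).hom := by dsimp; infer_instance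
  have : Flat (snd X Y).left := by dsimp; infer_instance
  have : Surjective (snd X Y).left := by dsimp; infer_instance
  have hcov : AlgGrp1.IsCover (snd X Y) := AlgGrp1.isCover _
  have : IsProper (F.obj X).hom := by dsimp [F]; infer_instance
  have : GeometricallyIntegral (F.obj X).hom := by dsimp [F]; infer_instance
  have : LocallyOfFiniteType (F.obj Y).hom := by dsimp [F]; infer_instance
  have : GeometricallyIntegral (F.obj Y).hom := by dsimp [F]; infer_instance
  have : IsSeparated (F.obj Z).hom := by dsimp [F]; infer_instance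
  have := preconnectedSpace_left (F.obj Y)
  have := isIntegral_left (F.obj X)
  obtain ⟨x₁⟩ := AlgGrp1.exists_point (F.obj X)
  let y₁ : 𝟙_ _ ⟶ F.obj Y := Over.homMk (pullback.lift y₀.left (𝟙 _) (by simp [b]))
  let z₁ : 𝟙_ _ ⟶ F.obj Z := Over.homMk (pullback.lift z₀.left (𝟙 _) (by simp [b]))
  let f' : F.obj X ⊗ F.obj Y ⟶ F.obj Z := (Functor.Monoidal.μIso F X Y).hom ≫ F.map f
  have hf' : lift (𝟙 (F.obj X)) (toUnit _ ≫ y₁) ≫ f' = toUnit _ ≫ z₁ := by
    apply Over.OverMorphism.ext
    apply pullback.hom_ext
    · have key := congrArg (fun r => r.left) h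
      simp only [f', F, Over.comp_left, Over.pullback_map_left, Category.assoc, pullback.lift_fst,
        Functor.Monoidal.μIso_hom] at key ⊢
      have e : (lift (𝟙 (F.obj X)) (toUnit (F.obj X) ≫ y₁)).left ≫
          (Functor.LaxMonoidal.μ F X Y).left ≫ pullback.fst (X ⊗ Y).hom b = (X ◁ y₀).left := by
        apply pullback.hom_ext
        · have e1 := congrArg (fun r => r.left ≫ pullback.fst X.hom b) (Functor.Monoidal.μ_fst F X Y)
          simp only [F, Over.comp_left, Category.assoc, Over.pullback_map_left, pullback.lift_fst] at e1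
          simp only [Category.assoc]
          rw [show pullback.fst X.hom Y.hom = (fst X Y).left from rfl, e1, ← Category.assoc,
            ← Over.comp_left, lift_fst]
          simp [F, b]
        · have e1 := congrArg (fun r => r.left ≫ pullback.fst Y.hom b) (Functor.Monoidal.μ_snd F X Y)
          simp only [F, Over.comp_left, Category.assoc, Over.pullback_map_left, pullback.lift_fst] at e1
          simp only [Category.assoc]
          rw [show pullback.snd X.hom Y.hom = (snd X Y).left from rfl, e1, ← Category.assoc,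
            ← Over.comp_left, lift_snd]
          simp [F, y₁, b]
      erw [reassoc_of% e, key]
      simp [z₁, F, b]
    · exact (Over.w (lift (𝟙 (F.obj X)) (toUnit _ ≫ y₁) ≫ f')).trans (Over.w (toUnit (F.obj X) ≫ z₁)).symm
  have hrig := rigidity x₁ y₁ z₁ f' hf'
  obtain ⟨g, hg⟩ := hcov.exists_desc f (fun T a c hac => by
    apply F.map_injective
    have hF : F.map f = (Functor.Monoidal.μIso F X Y).inv ≫ f' := by simp [f']
    have hsnd : ∀ (d : T ⟶ X ⊗ Y), F.map d ≫ (Functor.Monoidal.μIso F X Y).inv ≫ snd _ _ =
        F.map (d ≫ snd X Y) := fun d => by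
      rw [F.map_comp, ← Functor.Monoidal.μ_snd F X Y]
      simp
    rw [F.map_comp, F.map_comp, hF, hrig, ← Category.assoc (Functor.Monoidal.μIso F X Y).inv,
      ← Category.assoc (F.map a), ← Category.assoc (F.map c), hsnd a, hsnd c, hac])
  exact ⟨g, hg.symm, fun g' hg' => hcov.cancel (hg'.symm.trans hg.symm)⟩

end Groth.Abvar
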